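import Cfsg.Agent.Lib.Chev.E6Cubic.Rep
import Cfsg.Prelude.Def_E6

/-!
The cubic form of type E6: invariance under the root elements, polarisation, and white vectors.
-/

set_option autoImplicit false
set_option linter.unusedSectionVars false
set_option maxRecDepth 100000

namespace Cfsg.Lib.Chev.E6Cubic

open Cfsg.Lie Matrix

variable {F : Type*} [Field F]

/-- The coordinate of a vector with a given number. -/
def co (v : I27 → F) (a : ℕ) : F := v (ix a)

/-- The value of a monomial. -/
def mv (v : I27 → F) (m : ℕ × ℕ × ℕ × ℤ) : F := (m.2.2.2 : F) * (co v m.1 * co v m.2.1 * co v m.2.2.1)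

set_option maxHeartbeats 1000000 in
theorem cubicT_eq (v : I27 → F) : cubicT v = (monL.map (mv v)).sum := by
  simp only [cubicT, mat3, Matrix.det_fin_three, Matrix.trace_fin_three, Matrix.mul_apply, Fin.sum_univ_three,
    Matrix.of_apply, monL, List.map_cons, List.map_nil, List.sum_cons, List.sum_nil, mv, co, ix]
  simp only [Nat.reduceDiv, Nat.reduceMod, Fin.mk_zero, Fin.mk_one, Fin.reduceFinMk]
  norm_num
  ring

/-! ### Root elements -/

/-- The sources of a target. -/
def srcL (l : List (ℕ × ℕ × ℤ)) (a : ℕ) : List (ℕ × ℤ) := (l.filter fun p => p.1 == a).map Prod.snd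

theorem co_mulVec {l : List (ℕ × ℕ × ℤ)} (hl : okL l = true) (v : I27 → F) {a : ℕ} (ha : a < 27) :
    co ((Int.castRingHom F).mapMatrix (toM l) *ᵥ v) a = ((srcL l a).map fun q => (q.2 : F) * co v q.1).sum := by
  induction l with
  | nil => simp [toM, srcL, co]
  | cons p l ih =>
    obtain ⟨i, j, c⟩ := p
    simp only [okL, List.all_cons, Bool.and_eq_true, Nat.blt_eq] at hl
    rw [show toM ((i, j, c) :: l) = Matrix.single (ix i) (ix j) c + toM l from rfl, map_add, Matrix.add_mulVec,
      show ∀ x y : I27 → F, co (x + y) a = co x a + co y a from fun _ _ => rfl, ih hl.2]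
    by_cases hia : i = a
    · subst hia
      simp [srcL, co, RingHom.mapMatrix_apply, Matrix.mulVec, dotProduct, Matrix.single_apply]
    · have : ix i ≠ ix a := fun e => hia ((ix_inj hl.1.1 ha).1 e)
      simp [srcL, co, hia, this, RingHom.mapMatrix_apply, Matrix.mulVec, dotProduct, Matrix.single_apply]

/-- The element of a root, acting. -/
noncomputable def rt (r : ℕ) (t : F) : GL I27 F := MatRep.repHom repOK (chevE6.stGen F r t)

/-- The group of the root elements. -/
noncomputable def rootGrp (F : Type*) [Field F] : Subgroup (GL I27 F) := (MatRep.repHom repOK (F := F)).range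

theorem rt_mem (r : ℕ) (t : F) : rt r t ∈ rootGrp F := ⟨_, rfl⟩

/-- The action. -/
def act (g : GL I27 F) (v : I27 → F) : I27 → F := (g : Matrix I27 I27 F) *ᵥ v

theorem act_mul (g h : GL I27 F) (v : I27 → F) : act (g * h) v = act g (act h v) := by
  rw [act, act, act, Matrix.mulVec_mulVec, Units.val_mul]

theorem act_one (v : I27 → F) : act 1 v = v := by rw [act, Units.val_one, Matrix.one_mulVec]

theorem act_inv_act (g : GL I27 F) (v : I27 → F) : act g⁻¹ (act g v) = v := by
  rw [← act_mul, inv_mul_cancel, act_one]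

theorem act_act_inv (g : GL I27 F) (v : I27 → F) : act g (act g⁻¹ v) = v := by
  rw [← act_mul, mul_inv_cancel, act_one]

theorem act_smul (g : GL I27 F) (c : F) (v : I27 → F) : act g (c • v) = c • act g v := Matrix.mulVec_smul _ _ _

theorem act_ne_zero {g : GL I27 F} {v : I27 → F} (hv : v ≠ 0) : act g v ≠ 0 := fun h => hv (by
  rw [← act_inv_act g v, h]; exact Matrix.mulVec_zero _)

theorem co_rt {r : ℕ} (hr : r < 72) (t : F) (v : I27 → F) {a : ℕ} (ha : a < 27) :
    co (act (rt r t) v) a = co v a + t * ((srcL (eL r) a).map fun q => (q.2 : F) * co v q.1).sum := by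
  rw [act, rt, MatRep.repHom_gen repOK (show r < chevE6.nroots from hr), MatRep.repX, MatRep.mE,
    Matrix.add_mulVec, Matrix.one_mulVec, Matrix.smul_mulVec, ← co_mulVec (okL_eL r hr) v ha]
  rfl

/-- The expansion of a coordinate. -/
def expnd (r a : ℕ) : List (ℕ × ℕ × ℤ) := (a, 0, 1) :: (srcL (eL r) a).map fun q => (q.1, 1, q.2)

/-- Sort three numbers and pack them with an exponent. -/
def pack (x y z k : ℕ) : ℕ :=
  if x ≤ y then (if y ≤ z then ((x * 27 + y) * 27 + z) * 4 + k
    else if x ≤ z then ((x * 27 + z) * 27 + y) * 4 + k else ((z * 27 + x) * 27 + y) * 4 + k)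
  else (if x ≤ z then ((y * 27 + x) * 27 + z) * 4 + k
    else if y ≤ z then ((y * 27 + z) * 27 + x) * 4 + k else ((z * 27 + y) * 27 + x) * 4 + k)

/-- The value of a packed monomial. -/
def pval (v : I27 → F) (t : F) (n : ℕ) : F :=
  co v (n / 4 / 27 / 27) * co v (n / 4 / 27 % 27) * co v (n / 4 % 27) * t ^ (n % 4)

theorem pval_code (v : I27 → F) (t : F) {x y z k : ℕ} (hy : y < 27) (hz : z < 27) (hk : k < 4) :
    pval v t (((x * 27 + y) * 27 + z) * 4 + k) = co v x * co v y * co v z * t ^ k := by
  unfold pval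
  rw [show (((x * 27 + y) * 27 + z) * 4 + k) / 4 = (x * 27 + y) * 27 + z by omega,
    show ((x * 27 + y) * 27 + z) / 27 = x * 27 + y by omega, show (x * 27 + y) / 27 = x by omega,
    show (x * 27 + y) % 27 = y by omega, show ((x * 27 + y) * 27 + z) % 27 = z by omega,
    show (((x * 27 + y) * 27 + z) * 4 + k) % 4 = k by omega]

theorem pval_pack (v : I27 → F) (t : F) {x y z k : ℕ} (hx : x < 27) (hy : y < 27) (hz : z < 27) (hk : k < 4) :
    pval v t (pack x y z k) = co v x * co v y * co v z * t ^ k := by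
  unfold pack
  split_ifs <;> rw [pval_code v t (by omega) (by omega) hk] <;> ring

/-- The terms of the transformed form minus the form. -/
def invTerms (r : ℕ) : List (ℕ × ℤ) :=
  (monL.flatMap fun m => (expnd r m.1).flatMap fun a => (expnd r m.2.1).flatMap fun b =>
    (expnd r m.2.2.1).map fun c => (pack a.1 b.1 c.1 (a.2.1 + b.2.1 + c.2.1), m.2.2.2 * (a.2.2 * b.2.2 * c.2.2))) ++
  monL.map fun m => (pack m.1 m.2.1 m.2.2.1 0, -m.2.2.2)

/-- The monomials are in range. -/
theorem monL_ok : ∀ m ∈ monL, m.1 < 27 ∧ m.2.1 < 27 ∧ m.2.2.1 < 27 ∧ m.1 ≠ m.2.1 ∧ m.1 ≠ m.2.2.1 ∧ m.2.1 ≠ m.2.2.1 := by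
  decide +kernel

/-- The check of invariance. -/
def invChk (r : ℕ) : Bool := canc (invTerms r) &&
  (List.range 27).all fun a => (srcL (eL r) a).all fun q => Nat.blt q.1 27

theorem invChk0 : ((List.range 24).map (· + 0)).all invChk = true := by decide +kernel
theorem invChk1 : ((List.range 24).map (· + 24)).all invChk = true := by decide +kernel
theorem invChk2 : ((List.range 24).map (· + 48)).all invChk = true := by decide +kernel

theorem invChk_all : (List.range 72).all invChk = true := by
  have h0 := invChk0; have h1 := invChk1; have h2 := invChk2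
  simp only [List.all_map, List.all_eq_true, List.mem_range, Function.comp_apply] at h0 h1 h2 ⊢
  intro r hr
  rcases Nat.lt_or_ge r 24 with h | h
  · exact h0 r h
  rcases Nat.lt_or_ge r 48 with h' | h'
  · exact (show r - 24 + 24 = r by omega) ▸ h1 (r - 24) (by omega)
  · exact (show r - 48 + 48 = r by omega) ▸ h2 (r - 48) (by omega)

theorem sum_flatMap {α β M : Type*} [AddCommMonoid M] (f : β → M) (g : α → List β) (l : List α) :
    ((l.flatMap g).map f).sum = (l.map fun a => ((g a).map f).sum).sum := by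
  induction l with
  | nil => simp
  | cons a l ih => simp [ih]

theorem mul_sum3 {α R : Type*} [CommRing R] (K : R) (f g h : α → R) (L₁ L₂ L₃ : List α) :
    K * ((L₁.map f).sum * (L₂.map g).sum * (L₃.map h).sum) =
      (L₁.map fun a => (L₂.map fun b => (L₃.map fun c => K * (f a * g b * h c)).sum).sum).sum := by
  simp only [List.sum_map_mul_left, List.sum_map_mul_right]

theorem expnd_sum {r : ℕ} (hr : r < 72) (t : F) (v : I27 → F) {a : ℕ} (ha : a < 27) :
    ((expnd r a).map fun q => (q.2.2 : F) * (t ^ q.2.1 * co v q.1)).sum = co (act (rt r t) v) a := by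
  rw [co_rt hr t v ha, expnd, List.map_cons, List.sum_cons, List.map_map, ← List.sum_map_mul_left]
  simp only [Int.cast_one, pow_zero, one_mul]
  congr 1
  refine congrArg List.sum (List.map_congr_left fun q _ => ?_)
  simp only [Function.comp_apply, pow_one]
  ring

theorem expnd_bound {r : ℕ} (hr : r < 72) {a : ℕ} (ha : a < 27) : ∀ q ∈ expnd r a, q.1 < 27 ∧ q.2.1 ≤ 1 := by
  have h := invChk_all
  simp only [List.all_eq_true, List.mem_range, invChk, Bool.and_eq_true, Nat.blt_eq] at h
  intro q hq
  rcases List.mem_cons.1 hq with rfl | hq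
  · exact ⟨ha, Nat.zero_le _⟩
  · obtain ⟨p, hp, rfl⟩ := List.mem_map.1 hq
    exact ⟨(h r hr).2 a ha p hp, le_refl _⟩

theorem rt_inv {r : ℕ} (hr : r < 72) (t : F) (v : I27 → F) : cubicT (act (rt r t) v) = cubicT v := by
  have h := invChk_all
  simp only [List.all_eq_true, List.mem_range, invChk, Bool.and_eq_true] at h
  have h0 := sum_eq_zero_of_canc (pval v t) (h r hr).1
  rw [invTerms, List.map_append, List.sum_append, List.map_map, add_eq_zero_iff_eq_neg] at h0
  rw [cubicT_eq, cubicT_eq]
  have e1 : (monL.map ((fun p : ℕ × ℤ => p.2 • pval v t p.1) ∘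
      fun m => (pack m.1 m.2.1 m.2.2.1 0, -m.2.2.2))).sum = -(monL.map (mv v)).sum := by
    rw [show ∀ l : List (ℕ × ℕ × ℕ × ℤ), -(l.map (mv v)).sum = (l.map fun m => -(mv v m)).sum from fun l => by
      induction l with
      | nil => simp
      | cons a l ih => simp [← ih, add_comm]]
    refine congrArg List.sum (List.map_congr_left fun m hm => ?_)
    obtain ⟨a, b, c, -⟩ := monL_ok m hm
    simp only [Function.comp_apply, pval_pack v t a b c (by decide : 0 < 4), mv, neg_smul, zsmul_eq_mul, pow_zero,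
      mul_one]
    push_cast
    ring
  rw [e1, neg_neg] at h0
  rw [← h0, sum_flatMap]
  refine congrArg List.sum (List.map_congr_left fun m hm => ?_)
  obtain ⟨a, b, c, -⟩ := monL_ok m hm
  rw [mv, ← expnd_sum hr t v a, ← expnd_sum hr t v b, ← expnd_sum hr t v c, sum_flatMap]
  rw [mul_sum3]
  simp only [sum_flatMap, List.map_map]
  refine congrArg List.sum (List.map_congr_left fun x hx => ?_)
  refine congrArg List.sum (List.map_congr_left fun y hy => ?_)
  refine congrArg List.sum (List.map_congr_left fun z hz => ?_)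
  obtain ⟨hx1, hx2⟩ := expnd_bound hr a x hx
  obtain ⟨hy1, hy2⟩ := expnd_bound hr b y hy
  obtain ⟨hz1, hz2⟩ := expnd_bound hr c z hz
  simp only [Function.comp_apply, pval_pack v t hx1 hy1 hz1 (show x.2.1 + y.2.1 + z.2.1 < 4 by omega), zsmul_eq_mul,
    pow_add]
  push_cast
  ring

theorem rootGrp_le : rootGrp F ≤ E6univ F := by
  rintro g ⟨s, rfl⟩
  have hs : s ∈ Subgroup.closure (Set.range (PresentedGroup.of (rels := chevE6.steinbergRels F))) := by
    rw [PresentedGroup.closure_range_of]; exact Subgroup.mem_top _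
  induction hs using Subgroup.closure_induction with
  | mem x hx =>
    obtain ⟨⟨r, t⟩, rfl⟩ := hx
    intro v
    have e : (PresentedGroup.of (r, t) : chevE6.SteinbergGroup F) = chevE6.stGen F r t := by
      rw [ChevalleyDatum.stGen, ChevalleyDatum.stX, dif_pos r.2]; rfl
    rw [e]
    exact rt_inv (F := F) (show (r : ℕ) < 72 from r.2) t v
  | one => rw [map_one]; exact one_mem _
  | mul a b _ _ ha hb => rw [map_mul]; exact mul_mem ha hb
  | inv a _ ha => rw [map_inv]; exact inv_mem ha

/-! ### Polarisation -/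

/-- The mixed part, linear in the second argument. -/
def pA (v w : I27 → F) : F :=
  (monL.map fun m => (m.2.2.2 : F) * (co w m.1 * co v m.2.1 * co v m.2.2.1 + co v m.1 * co w m.2.1 * co v m.2.2.1 +
    co v m.1 * co v m.2.1 * co w m.2.2.1)).sum

/-- The full polarisation. -/
def phi (u v w : I27 → F) : F := pA (u + v) w - pA u w - pA v w

theorem cubicT_add (v w : I27 → F) (s : F) :
    cubicT (v + s • w) = cubicT v + s * pA v w + s ^ 2 * pA w v + s ^ 3 * cubicT w := by
  simp only [cubicT_eq, pA, ← List.sum_map_mul_left, ← List.sum_map_add]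
  refine congrArg List.sum (List.map_congr_left fun m _ => ?_)
  simp only [mv, co, Pi.add_apply, Pi.smul_apply, smul_eq_mul]
  ring

theorem pA_act {g : GL I27 F} (hg : g ∈ E6univ F) (hF : ∃ s : F, s ≠ 0 ∧ s ≠ 1) (v w : I27 → F) :
    pA (act g v) (act g w) = pA v w := by
  obtain ⟨s, h0, h1⟩ := hF
  have hT : ∀ x, cubicT (act g x) = cubicT x := hg
  have e : ∀ a : F, a * pA (act g v) (act g w) + a ^ 2 * pA (act g w) (act g v) =
      a * pA v w + a ^ 2 * pA w v := fun a => by
    have h := hT (v + a • w)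
    rw [show act g (v + a • w) = act g v + a • act g w by rw [← act_smul]; exact Matrix.mulVec_add _ _ _,
      cubicT_add, cubicT_add, hT, hT] at h
    linear_combination h
  have h2 : s * (1 - s) ≠ 0 := mul_ne_zero h0 (sub_ne_zero.2 (Ne.symm h1))
  refine mul_left_cancel₀ h2 ?_
  have := e s; have := e 1
  linear_combination e s - s ^ 2 * e 1

theorem phi_act {g : GL I27 F} (hg : g ∈ E6univ F) (hF : ∃ s : F, s ≠ 0 ∧ s ≠ 1) (u v w : I27 → F) :
    phi (act g u) (act g v) (act g w) = phi u v w := by
  rw [phi, ← show act g (u + v) = act g u + act g v from Matrix.mulVec_add _ _ _, pA_act hg hF, pA_act hg hF,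
    pA_act hg hF, phi]

theorem phi_eq (u v w : I27 → F) : phi u v w = (monL.map fun m => (m.2.2.2 : F) *
    (co w m.1 * (co u m.2.1 * co v m.2.2.1 + co v m.2.1 * co u m.2.2.1) +
      co w m.2.1 * (co u m.1 * co v m.2.2.1 + co v m.1 * co u m.2.2.1) +
      co w m.2.2.1 * (co u m.1 * co v m.2.1 + co v m.1 * co u m.2.1))).sum := by
  rw [phi, sub_sub, sub_eq_iff_eq_add]
  simp only [pA, ← List.sum_map_add]
  refine congrArg List.sum (List.map_congr_left fun m _ => ?_)
  simp only [co, Pi.add_apply]
  ring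

theorem phi_smul_left (c : F) (u v w : I27 → F) : phi (c • u) v w = c * phi u v w := by
  simp only [phi_eq, ← List.sum_map_mul_left]
  refine congrArg List.sum (List.map_congr_left fun m _ => ?_)
  simp only [co, Pi.smul_apply, smul_eq_mul]
  ring

theorem phi_smul_right (c : F) (u v w : I27 → F) : phi u v (c • w) = c * phi u v w := by
  simp only [phi_eq, ← List.sum_map_mul_left]
  refine congrArg List.sum (List.map_congr_left fun m _ => ?_)
  simp only [co, Pi.smul_apply, smul_eq_mul]
  ring

theorem phi_smul_mid (c : F) (u v w : I27 → F) : phi u (c • v) w = c * phi u v w := by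
  simp only [phi_eq, ← List.sum_map_mul_left]
  refine congrArg List.sum (List.map_congr_left fun m _ => ?_)
  simp only [co, Pi.smul_apply, smul_eq_mul]
  ring

/-- A unit vector. -/
def dl (a : ℕ) : I27 → F := Pi.single (ix a) 1

theorem co_dl {a b : ℕ} (ha : a < 27) (hb : b < 27) : co (dl (F := F) a) b = if a = b then 1 else 0 := by
  by_cases h : a = b
  · subst h; simp [co, dl]
  · have : ix b ≠ ix a := fun e => h ((ix_inj hb ha).1 e).symm
    simp [co, dl, h, this]

theorem dl_ne_zero (a : ℕ) : (dl a : I27 → F) ≠ 0 := fun h => by simpa [dl] using congrFun h (ix a)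

theorem ext_co {v w : I27 → F} (h : ∀ a < 27, co v a = co w a) : v = w := funext fun x => by
  have := h _ (cd_lt x); rwa [co, co, ix_cd] at this

/-- The pairs completing a coordinate to a monomial. -/
def grad (x : ℕ) : List (ℕ × ℕ × ℤ) := monL.flatMap fun m =>
  if m.1 = x then [(m.2.1, m.2.2.1, m.2.2.2)] else if m.2.1 = x then [(m.1, m.2.2.1, m.2.2.2)]
  else if m.2.2.1 = x then [(m.1, m.2.1, m.2.2.2)] else []

/-- The third coordinates of two. -/
def grad2 (p x : ℕ) : List (ℕ × ℤ) := (grad x).flatMap fun q =>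
  if q.1 = p then [(q.2.1, q.2.2)] else if q.2.1 = p then [(q.1, q.2.2)] else []

theorem pA_dl (v : I27 → F) {x : ℕ} (hx : x < 27) :
    pA v (dl x) = ((grad x).map fun q => (q.2.2 : F) * (co v q.1 * co v q.2.1)).sum := by
  rw [pA, grad, sum_flatMap]
  refine congrArg List.sum (List.map_congr_left fun m hm => ?_)
  obtain ⟨a, b, c, h1, h2, h3⟩ := monL_ok m hm
  clear hm
  rw [co_dl hx a, co_dl hx b, co_dl hx c]
  split_ifs <;> first | (exfalso; omega) |
    (simp only [List.map_cons, List.map_nil, List.sum_cons, List.sum_nil]; ring1) | ring1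

theorem phi_dl_left {p : ℕ} (hp : p < 27) (v w : I27 → F) : phi (dl p) v w =
    ((grad p).map fun q => (q.2.2 : F) * (co v q.1 * co w q.2.1 + co w q.1 * co v q.2.1)).sum := by
  rw [phi_eq, grad, sum_flatMap]
  refine congrArg List.sum (List.map_congr_left fun m hm => ?_)
  obtain ⟨a, b, c, h1, h2, h3⟩ := monL_ok m hm
  clear hm
  rw [co_dl hp a, co_dl hp b, co_dl hp c]
  split_ifs <;> first | (exfalso; omega) |
    (simp only [List.map_cons, List.map_nil, List.sum_cons, List.sum_nil]; ring1) | ring1

theorem grad_ok : ∀ x < 27, ∀ q ∈ grad x, q.1 < 27 ∧ q.2.1 < 27 ∧ q.1 ≠ q.2.1 ∧ q.1 ≠ x ∧ q.2.1 ≠ x := by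
  decide +kernel

set_option maxHeartbeats 1000000 in
theorem phi_dl_dl {p x : ℕ} (hp : p < 27) (hx : x < 27) (v : I27 → F) :
    phi (dl p) v (dl x) = ((grad2 p x).map fun q => (q.2 : F) * co v q.1).sum := by
  rw [phi_eq, grad2, sum_flatMap, grad, sum_flatMap]
  refine congrArg List.sum (List.map_congr_left fun m hm => ?_)
  obtain ⟨a, b, c, h1, h2, h3⟩ := monL_ok m hm
  clear hm
  rw [co_dl hp a, co_dl hp b, co_dl hp c, co_dl hx a, co_dl hx b, co_dl hx c]
  split_ifs <;> first | (exfalso; omega) |
    (simp only [List.map_cons, List.map_nil, List.sum_cons, List.sum_nil]; ring1) |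
    (simp only [List.map_cons, List.map_nil, List.sum_cons, List.sum_nil]
     split_ifs <;> first | (exfalso; omega) |
       (simp only [List.map_cons, List.map_nil, List.sum_cons, List.sum_nil]; ring1) | ring1) | ring1

/-- White vectors. -/
def White (v : I27 → F) : Prop := ∀ w, pA v w = 0

theorem white_dl {p : ℕ} (hp : p < 27) : White (dl (F := F) p) := fun w => by
  rw [pA, List.sum_eq_zero]
  simp only [List.mem_map]
  rintro _ ⟨m, hm, rfl⟩
  obtain ⟨a, b, c, h1, h2, h3⟩ := monL_ok m hm
  clear hm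
  rw [co_dl hp a, co_dl hp b, co_dl hp c]
  split_ifs <;> first | (exfalso; omega) |
    (simp only [List.map_cons, List.map_nil, List.sum_cons, List.sum_nil]; ring1) | ring1

theorem white_act {g : GL I27 F} (hg : g ∈ E6univ F) (hF : ∃ s : F, s ≠ 0 ∧ s ≠ 1) {v : I27 → F} (hv : White v) :
    White (act g v) := fun w => by
  rw [← act_act_inv g w, pA_act hg hF]; exact hv _

end Cfsg.Lib.Chev.E6Cubic
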