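import Cfsg.Prelude.Def_E6

/-!
Tables for the twenty-seven dimensional module of type E6: root elements, monomials of the cubic form, and the
stages of the normalisation of its isometries.
-/

set_option autoImplicit false

namespace Cfsg.Lib.Chev.E6Cubic

/-- The root elements: row, column, entry. -/
def eL : ℕ → List (ℕ × ℕ × ℤ)
  | 0 => [(7, 16, 1), (8, 13, -1), (9, 26, -1), (11, 20, 1), (21, 3, 1), (22, 0, -1)]
  | 1 => [(7, 15, 1), (8, 12, -1), (10, 26, 1), (11, 23, -1), (18, 3, 1), (19, 0, -1)]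
  | 2 => [(2, 0, 1), (5, 3, 1), (8, 6, 1), (9, 15, -1), (10, 16, -1), (11, 17, -1)]
  | 3 => [(1, 0, -1), (4, 3, -1), (7, 6, -1), (9, 12, 1), (10, 13, 1), (11, 14, 1)]
  | 4 => [(7, 17, -1), (8, 14, 1), (9, 23, -1), (10, 20, 1), (24, 3, -1), (25, 0, 1)]
  | 5 => [(5, 26, 1), (8, 25, -1), (11, 1, 1), (14, 0, -1), (18, 16, 1), (21, 15, -1)]
  | 6 => [(4, 26, -1), (7, 25, 1), (11, 2, 1), (17, 0, -1), (18, 13, -1), (21, 12, 1)]
  | 7 => [(6, 0, 1), (7, 1, 1), (8, 2, 1), (18, 20, -1), (21, 23, -1), (24, 26, -1)]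
  | 8 => [(4, 16, 1), (5, 13, -1), (9, 25, -1), (11, 19, 1), (21, 6, -1), (23, 0, 1)]
  | 9 => [(5, 20, -1), (8, 19, 1), (9, 1, -1), (12, 0, 1), (21, 17, -1), (24, 16, 1)]
  | 10 => [(4, 20, 1), (7, 19, -1), (9, 2, -1), (15, 0, 1), (21, 14, 1), (24, 13, -1)]
  | 11 => [(4, 15, 1), (5, 12, -1), (10, 25, 1), (11, 22, -1), (18, 6, -1), (20, 0, 1)]
  | 12 => [(5, 23, 1), (8, 22, -1), (10, 1, 1), (13, 0, -1), (18, 17, -1), (24, 15, 1)]
  | 13 => [(4, 23, -1), (7, 22, 1), (10, 2, 1), (16, 0, -1), (18, 14, 1), (24, 12, -1)]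
  | 14 => [(4, 17, -1), (5, 14, 1), (9, 22, -1), (10, 19, 1), (24, 6, 1), (26, 0, -1)]
  | 15 => [(3, 0, 1), (4, 1, 1), (5, 2, 1), (18, 19, -1), (21, 22, -1), (24, 25, -1)]
  | 16 => [(2, 26, 1), (8, 24, -1), (11, 4, -1), (14, 3, 1), (19, 16, -1), (22, 15, 1)]
  | 17 => [(1, 26, -1), (7, 24, 1), (11, 5, -1), (17, 3, 1), (19, 13, 1), (22, 12, -1)]
  | 18 => [(6, 3, -1), (7, 4, -1), (8, 5, -1), (19, 20, 1), (22, 23, 1), (25, 26, 1)]
  | 19 => [(1, 16, 1), (2, 13, -1), (9, 24, -1), (11, 18, 1), (22, 6, 1), (23, 3, -1)]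
  | 20 => [(2, 20, -1), (8, 18, 1), (9, 4, 1), (12, 3, -1), (22, 17, 1), (25, 16, -1)]
  | 21 => [(1, 20, 1), (7, 18, -1), (9, 5, 1), (15, 3, -1), (22, 14, -1), (25, 13, 1)]
  | 22 => [(11, 10, 1), (14, 13, 1), (17, 16, 1), (21, 24, -1), (22, 25, -1), (23, 26, -1)]
  | 23 => [(6, 16, -1), (8, 10, 1), (12, 26, -1), (14, 20, 1), (21, 4, 1), (22, 1, -1)]
  | 24 => [(6, 13, 1), (7, 10, -1), (15, 26, -1), (17, 20, 1), (21, 5, 1), (22, 2, -1)]
  | 25 => [(9, 10, 1), (12, 13, 1), (15, 16, 1), (21, 18, -1), (22, 19, -1), (23, 20, -1)]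
  | 26 => [(1, 15, 1), (2, 12, -1), (10, 24, 1), (11, 21, -1), (19, 6, 1), (20, 3, -1)]
  | 27 => [(2, 23, 1), (8, 21, -1), (10, 4, -1), (13, 3, 1), (19, 17, 1), (25, 15, -1)]
  | 28 => [(1, 23, -1), (7, 21, 1), (10, 5, -1), (16, 3, 1), (19, 14, -1), (25, 12, 1)]
  | 29 => [(1, 17, -1), (2, 14, 1), (9, 21, -1), (10, 18, 1), (25, 6, -1), (26, 3, 1)]
  | 30 => [(11, 9, -1), (14, 12, -1), (17, 15, -1), (18, 24, 1), (19, 25, 1), (20, 26, 1)]
  | 31 => [(6, 15, 1), (8, 9, -1), (13, 26, -1), (14, 23, 1), (18, 4, -1), (19, 1, 1)]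
  | 32 => [(6, 12, -1), (7, 9, 1), (16, 26, -1), (17, 23, 1), (18, 5, -1), (19, 2, 1)]
  | 33 => [(2, 25, 1), (5, 24, -1), (11, 7, 1), (14, 6, -1), (20, 16, 1), (23, 15, -1)]
  | 34 => [(2, 1, 1), (5, 4, 1), (8, 7, 1), (12, 15, -1), (13, 16, -1), (14, 17, -1)]
  | 35 => [(1, 25, 1), (4, 24, -1), (11, 8, -1), (17, 6, 1), (20, 13, 1), (23, 12, -1)]
  | 36 => [(6, 17, 1), (8, 11, -1), (12, 23, -1), (13, 20, 1), (24, 4, -1), (25, 1, 1)]
  | 37 => [(1, 2, 1), (4, 5, 1), (7, 8, 1), (15, 12, -1), (16, 13, -1), (17, 14, -1)]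
  | 38 => [(6, 14, -1), (7, 11, 1), (15, 23, -1), (16, 20, 1), (24, 5, -1), (25, 2, 1)]
  | 39 => [(2, 19, 1), (5, 18, -1), (9, 7, 1), (12, 6, -1), (23, 17, 1), (26, 16, -1)]
  | 40 => [(1, 19, 1), (4, 18, -1), (9, 8, -1), (15, 6, 1), (23, 14, 1), (26, 13, -1)]
  | 41 => [(9, 11, -1), (12, 14, -1), (15, 17, -1), (24, 18, 1), (25, 19, 1), (26, 20, 1)]
  | 42 => [(3, 26, 1), (6, 25, -1), (14, 2, 1), (17, 1, -1), (18, 10, 1), (21, 9, -1)]
  | 43 => [(3, 16, 1), (5, 10, -1), (12, 25, 1), (14, 19, -1), (21, 7, 1), (23, 1, -1)]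
  | 44 => [(3, 13, 1), (4, 10, -1), (15, 25, -1), (17, 19, 1), (21, 8, -1), (23, 2, 1)]
  | 45 => [(3, 20, -1), (6, 19, 1), (12, 2, -1), (15, 1, 1), (21, 11, -1), (24, 10, 1)]
  | 46 => [(10, 9, 1), (13, 12, 1), (16, 15, 1), (18, 21, -1), (19, 22, -1), (20, 23, -1)]
  | 47 => [(2, 22, -1), (5, 21, 1), (10, 7, -1), (13, 6, 1), (20, 17, 1), (26, 15, -1)]
  | 48 => [(1, 22, -1), (4, 21, 1), (10, 8, 1), (16, 6, -1), (20, 14, 1), (26, 12, -1)]
  | 49 => [(10, 11, 1), (13, 14, 1), (16, 17, 1), (24, 21, -1), (25, 22, -1), (26, 23, -1)]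
  | 50 => [(3, 15, -1), (5, 9, 1), (13, 25, 1), (14, 22, -1), (18, 7, -1), (20, 1, 1)]
  | 51 => [(3, 12, -1), (4, 9, 1), (16, 25, -1), (17, 22, 1), (18, 8, 1), (20, 2, -1)]
  | 52 => [(3, 23, -1), (6, 22, 1), (13, 2, -1), (16, 1, 1), (18, 11, 1), (24, 9, -1)]
  | 53 => [(3, 6, -1), (4, 7, -1), (5, 8, -1), (20, 19, 1), (23, 22, 1), (26, 25, 1)]
  | 54 => [(3, 17, 1), (5, 11, -1), (12, 22, -1), (13, 19, 1), (24, 7, 1), (26, 1, -1)]
  | 55 => [(3, 14, 1), (4, 11, -1), (15, 22, 1), (16, 19, -1), (24, 8, -1), (26, 2, 1)]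
  | 56 => [(0, 3, 1), (1, 4, 1), (2, 5, 1), (19, 18, -1), (22, 21, -1), (25, 24, -1)]
  | 57 => [(0, 26, -1), (6, 24, 1), (14, 5, 1), (17, 4, -1), (19, 10, 1), (22, 9, -1)]
  | 58 => [(0, 16, -1), (2, 10, 1), (12, 24, -1), (14, 18, 1), (22, 7, 1), (23, 4, -1)]
  | 59 => [(0, 13, -1), (1, 10, 1), (15, 24, 1), (17, 18, -1), (22, 8, -1), (23, 5, 1)]
  | 60 => [(0, 20, 1), (6, 18, -1), (12, 5, -1), (15, 4, 1), (22, 11, -1), (25, 10, 1)]
  | 61 => [(0, 15, 1), (2, 9, -1), (13, 24, -1), (14, 21, 1), (19, 7, -1), (20, 4, 1)]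
  | 62 => [(0, 12, 1), (1, 9, -1), (16, 24, 1), (17, 21, -1), (19, 8, 1), (20, 5, -1)]
  | 63 => [(0, 23, 1), (6, 21, -1), (13, 5, -1), (16, 4, 1), (19, 11, 1), (25, 9, -1)]
  | 64 => [(0, 6, 1), (1, 7, 1), (2, 8, 1), (20, 18, -1), (23, 21, -1), (26, 24, -1)]
  | 65 => [(0, 17, -1), (2, 11, 1), (12, 21, 1), (13, 18, -1), (25, 7, 1), (26, 4, -1)]
  | 66 => [(0, 14, -1), (1, 11, 1), (15, 21, -1), (16, 18, 1), (25, 8, -1), (26, 5, 1)]
  | 67 => [(0, 25, 1), (3, 24, -1), (14, 8, 1), (17, 7, -1), (20, 10, 1), (23, 9, -1)]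
  | 68 => [(0, 1, -1), (3, 4, -1), (6, 7, -1), (12, 9, 1), (13, 10, 1), (14, 11, 1)]
  | 69 => [(0, 2, 1), (3, 5, 1), (6, 8, 1), (15, 9, -1), (16, 10, -1), (17, 11, -1)]
  | 70 => [(0, 19, -1), (3, 18, 1), (12, 8, -1), (15, 7, 1), (23, 11, -1), (26, 10, 1)]
  | 71 => [(0, 22, -1), (3, 21, 1), (13, 8, -1), (16, 7, 1), (20, 11, 1), (26, 9, -1)]
  | _ => []

/-- The monomials of the cubic form. -/
def monL : List (ℕ × ℕ × ℕ × ℤ) :=
  [(0, 4, 8, 1), (0, 5, 7, -1), (0, 9, 18, -1), (0, 10, 21, -1), (0, 11, 24, -1), (1, 3, 8, -1), (1, 5, 6, 1), (1, 12, 18, -1), (1, 13, 21, -1), (1, 14, 24, -1), (2, 3, 7, 1), (2, 4, 6, -1), (2, 15, 18, -1), (2, 16, 21, -1), (2, 17, 24, -1), (3, 9, 19, -1), (3, 10, 22, -1), (3, 11, 25, -1), (4, 12, 19, -1), (4, 13, 22, -1), (4, 14, 25, -1), (5, 15, 19, -1), (5, 16, 22, -1), (5, 17, 25, -1), (6, 9, 20, -1), (6, 10, 23, -1), (6, 11, 26, -1), (7, 12, 20, -1), (7, 13, 23, -1),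 (7, 14, 26, -1), (8, 15, 20, -1), (8, 16, 23, -1), (8, 17, 26, -1), (9, 13, 17, 1), (9, 14, 16, -1), (10, 12, 17, -1), (10, 14, 15, 1), (11, 12, 16, 1), (11, 13, 15, -1), (18, 22, 26, 1), (18, 23, 25, -1), (19, 21, 26, -1), (19, 23, 24, 1), (20, 21, 25, 1), (20, 22, 24, -1)]

/-- The data of a stage. -/
structure Stg where
  /-- the pivot -/
  p : ℕ
  /-- the support -/
  sup : List ℕ
  /-- the available roots -/
  roots : List ℕ
  /-- the witnesses for the vanishing outside the support -/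
  kills : List (ℕ × ℕ × ℕ × ℕ × Option ℕ)
  /-- a coordinate set not all zero -/
  dom : List ℕ
  /-- the reason for it -/
  why : Option (ℕ × Option ℕ)
  /-- the moves towards the pivot -/
  moves : List (ℕ × ℕ × ℕ)
  /-- the coordinates to clear -/
  clr : List (ℕ × ℕ)
  /-- the coordinates vanishing by whiteness -/
  white : List (ℕ × ℕ)

/-- Stage 0. -/
def stg0 : Stg where
  p := 0
  sup := [0, 1, 2, 3, 4, 5, 6, 7, 8, 9, 10, 11, 12, 13, 14, 15, 16, 17, 18, 19, 20, 21, 22, 23, 24, 25, 26]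
  roots := [0, 1, 2, 3, 4, 5, 6, 7, 8, 9, 10, 11, 12, 13, 14, 15, 16, 17, 18, 19, 20, 21, 22, 23, 24, 25, 26, 27, 28, 29, 30, 31, 32, 33, 34, 35, 36, 37, 38, 39, 40, 41, 42, 43, 44, 45, 46, 47, 48, 49, 50, 51, 52, 53, 54, 55, 56, 57, 58, 59, 60, 61, 62, 63, 64, 65, 66, 67, 68, 69, 70, 71]
  kills := []
  dom := [0, 1, 2, 3, 4, 5, 6, 7, 8, 9, 10, 11, 12, 13, 14, 15, 16, 17, 18, 19, 20, 21, 22, 23, 24, 25, 26]
  why := none
  moves := [(1, 68, 0), (2, 37, 1), (3, 56, 0), (4, 56, 1), (5, 37, 4), (6, 53, 3), (7, 53, 4), (8, 37, 7), (9, 31, 8), (10, 23, 8), (11, 36, 8), (12, 1, 8), (13, 0, 8), (14, 3, 11), (15, 1, 7), (16, 0, 7), (17, 2, 11), (18, 19, 11), (19, 8, 11), (20, 0, 11), (21, 26, 11), (22, 11, 11), (23, 1, 11), (24, 16, 8), (25, 5, 8), (26, 0, 9)]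
  clr := [(1, 3), (2, 2), (3, 15), (6, 7), (12, 9), (13, 12), (14, 5), (15, 10), (16, 13), (17, 6), (19, 1), (20, 11), (22, 0), (23, 8), (25, 4), (26, 14)]
  white := [(4, 8), (5, 7), (7, 5), (8, 4), (9, 18), (10, 21), (11, 24), (18, 9), (21, 10), (24, 11)]

/-- Stage 1. -/
def stg1 : Stg where
  p := 4
  sup := [0, 1, 2, 3, 4, 5, 6, 7, 8, 9, 10, 11, 12, 13, 14, 15, 16, 17, 18, 19, 20, 21, 22, 23, 24, 25, 26]
  roots := [16, 17, 18, 19, 20, 21, 22, 23, 24, 25, 26, 27, 28, 29, 30, 31, 32, 33, 34, 35, 36, 37, 38, 39, 40, 41, 42, 43, 44, 45, 46, 47, 48, 49, 50, 51, 52, 53, 54, 55, 56, 57, 58, 59, 60, 61, 62, 63, 64, 65, 66, 67, 68, 69, 70, 71]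
  kills := []
  dom := [4, 5, 7, 8, 9, 10, 11, 18, 21, 24]
  why := (some (0, none))
  moves := [(5, 37, 4), (7, 53, 4), (8, 37, 7), (9, 31, 8), (10, 23, 8), (11, 36, 8), (18, 19, 11), (21, 26, 11), (24, 16, 8)]
  clr := [(1, 56), (3, 68), (5, 34), (7, 18), (9, 20), (10, 27), (11, 16), (15, 60), (16, 63), (17, 57), (18, 31), (20, 61), (21, 23), (23, 58), (24, 36), (26, 65)]
  white := [(0, 8), (2, 6), (6, 2), (8, 0), (12, 19), (13, 22), (14, 25), (19, 12), (22, 13), (25, 14)]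

/-- Stage 2. -/
def stg2 : Stg where
  p := 8
  sup := [0, 1, 2, 3, 4, 5, 6, 7, 8, 9, 10, 11, 12, 13, 14, 15, 16, 17, 18, 19, 20, 21, 22, 23, 24, 25, 26]
  roots := [17, 19, 21, 22, 24, 25, 26, 28, 29, 30, 32, 33, 35, 37, 38, 39, 40, 41, 42, 43, 44, 45, 46, 47, 48, 49, 50, 51, 52, 53, 54, 55, 59, 62, 64, 66, 67, 69, 70, 71]
  kills := []
  dom := [8]
  why := (some (0, (some 4)))
  moves := []
  clr := [(2, 64), (5, 53), (6, 69), (7, 37), (9, 40), (10, 48), (11, 35), (12, 70), (13, 71), (14, 67), (18, 51), (19, 62), (21, 44), (22, 59), (24, 55), (25, 66)]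
  white := [(0, 4), (1, 3), (3, 1), (4, 0), (15, 20), (16, 23), (17, 26), (20, 15), (23, 16), (26, 17)]

/-- Stage 3. -/
def stg3 : Stg where
  p := 5
  sup := [5, 7, 9, 10, 11, 18, 21, 24]
  roots := [17, 19, 21, 22, 24, 25, 26, 28, 29, 30, 32, 33, 38, 39, 41, 42, 43, 45, 46, 47, 49, 50, 52, 54]
  kills := [(0, 4, 4, 8, none), (1, 8, 8, 3, none), (2, 4, 4, 6, none), (3, 8, 8, 1, none), (4, 0, 0, 8, (some 8)), (6, 4, 4, 2, none), (8, 0, 0, 4, (some 4)), (12, 4, 4, 19, none), (13, 4, 4, 22, none), (14, 4, 4, 25, none), (15, 8, 8, 20, none), (16, 8, 8, 23, none), (17, 8, 8, 26, none), (19, 4, 4, 12, none), (20, 8, 8, 15, none), (22, 4, 4, 13, none), (23, 8, 8, 16, none), (25, 4, 4, 14, none), (26, 8, 8, 17, none)]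
  dom := [5, 7, 9, 10, 11, 18, 21, 24]
  why := none
  moves := [(9, 50, 5), (10, 25, 9), (11, 41, 9), (18, 19, 11), (21, 26, 11), (24, 19, 9), (7, 33, 11)]
  clr := [(9, 21), (10, 28), (11, 17), (18, 32), (21, 24), (24, 38)]
  white := [(7, 0)]

/-- Stage 4. -/
def stg4 : Stg where
  p := 7
  sup := [5, 7, 9, 10, 11, 18, 21, 24]
  roots := [19, 22, 25, 26, 29, 30, 33, 39, 41, 42, 43, 45, 46, 47, 49, 50, 52, 54]
  kills := [(0, 4, 4, 8, none), (1, 8, 8, 3, none), (2, 4, 4, 6, none), (3, 8, 8, 1, none), (4, 0, 0, 8, (some 8)), (6, 4, 4, 2, none), (8, 0, 0, 4, (some 4)), (12, 4, 4, 19, none), (13, 4, 4, 22, none), (14, 4, 4, 25, none), (15, 8, 8, 20, none), (16, 8, 8, 23, none), (17, 8, 8, 26, none), (19, 4, 4, 12, none), (20, 8, 8, 15, none), (22, 4, 4, 13, none), (23, 8, 8, 16, none), (25, 4, 4, 14, none), (26, 8, 8, 17, none)]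
  dom := [7]
  why := (some (0, (some 5)))
  moves := []
  clr := [(9, 39), (10, 47), (11, 33), (18, 50), (21, 43), (24, 54)]
  white := [(5, 0)]

/-- Stage 5. -/
def stg5 : Stg where
  p := 9
  sup := [9, 10, 11, 18, 21, 24]
  roots := [19, 22, 25, 26, 29, 30, 41, 42, 45, 46, 49, 52]
  kills := [(0, 4, 4, 8, none), (1, 8, 8, 3, none), (2, 4, 4, 6, none), (3, 8, 8, 1, none), (4, 0, 0, 8, (some 8)), (5, 0, 0, 7, (some 7)), (6, 4, 4, 2, none), (7, 0, 0, 5, (some 5)), (8, 0, 0, 4, (some 4)), (12, 4, 4, 19, none), (13, 4, 4, 22, none), (14, 4, 4, 25, none), (15, 8, 8, 20, none), (16, 8, 8, 23, none), (17, 8, 8, 26, none), (19, 4, 4, 12, none), (20, 8, 8, 15, none), (22, 4, 4, 13, none), (23, 8, 8, 16, none), (25, 4, 4, 14, none), (26, 8, 8, 17, none)]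
  dom := [9, 10, 11, 18, 21, 24]
  why := none
  moves := [(10, 25, 9), (11, 41, 9), (18, 19, 11), (21, 26, 11), (24, 19, 9)]
  clr := [(10, 46), (11, 30), (21, 42), (24, 52)]
  white := [(18, 0)]

/-- Stage 6. -/
def stg6 : Stg where
  p := 18
  sup := [9, 10, 11, 18, 21, 24]
  roots := [19, 22, 25, 26, 29, 41, 45, 49]
  kills := [(0, 4, 4, 8, none), (1, 8, 8, 3, none), (2, 4, 4, 6, none), (3, 8, 8, 1, none), (4, 0, 0, 8, (some 8)), (5, 0, 0, 7, (some 7)), (6, 4, 4, 2, none), (7, 0, 0, 5, (some 5)), (8, 0, 0, 4, (some 4)), (12, 4, 4, 19, none), (13, 4, 4, 22, none), (14, 4, 4, 25, none), (15, 8, 8, 20, none), (16, 8, 8, 23, none), (17, 8, 8, 26, none), (19, 4, 4, 12, none), (20, 8, 8, 15, none), (22, 4, 4, 13, none), (23, 8, 8, 16, none), (25, 4, 4, 14, none), (26, 8, 8, 17, none)]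
  dom := [18]
  why := (some (0, (some 9)))
  moves := []
  clr := [(10, 29), (11, 19), (21, 25), (24, 41)]
  white := [(9, 0)]

/-- Stage 7. -/
def stg7 : Stg where
  p := 10
  sup := [10, 11, 21, 24]
  roots := [22, 26, 45, 49]
  kills := [(0, 4, 4, 8, none), (1, 8, 8, 3, none), (2, 4, 4, 6, none), (3, 8, 8, 1, none), (4, 0, 0, 8, (some 8)), (5, 0, 0, 7, (some 7)), (6, 4, 4, 2, none), (7, 0, 0, 5, (some 5)), (8, 0, 0, 4, (some 4)), (9, 0, 0, 18, (some 18)), (12, 4, 4, 19, none), (13, 4, 4, 22, none), (14, 4, 4, 25, none), (15, 8, 8, 20, none), (16, 8, 8, 23, none), (17, 8, 8, 26, none), (18, 0, 0, 9, (some 9)), (19, 4, 4, 12, none), (20, 8, 8, 15, none), (22, 4, 4, 13, none), (23, 8, 8, 16, none), (25, 4, 4, 14, none), (26, 8, 8, 17, none)]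
  dom := [10, 11, 21, 24]
  why := none
  moves := [(11, 49, 10), (21, 26, 11), (24, 22, 21)]
  clr := [(11, 22), (24, 45)]
  white := [(21, 0)]

/-- Stage 8. -/
def stg8 : Stg where
  p := 21
  sup := [10, 11, 21, 24]
  roots := [26, 49]
  kills := [(0, 4, 4, 8, none), (1, 8, 8, 3, none), (2, 4, 4, 6, none), (3, 8, 8, 1, none), (4, 0, 0, 8, (some 8)), (5, 0, 0, 7, (some 7)), (6, 4, 4, 2, none), (7, 0, 0, 5, (some 5)), (8, 0, 0, 4, (some 4)), (9, 0, 0, 18, (some 18)), (12, 4, 4, 19, none), (13, 4, 4, 22, none), (14, 4, 4, 25, none), (15, 8, 8, 20, none), (16, 8, 8, 23, none), (17, 8, 8, 26, none), (18, 0, 0, 9, (some 9)), (19, 4, 4, 12, none), (20, 8, 8, 15, none), (22, 4, 4, 13, none), (23, 8, 8, 16, none), (25, 4, 4, 14, none), (26, 8, 8, 17, none)]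
  dom := [21]
  why := (some (0, (some 10)))
  moves := []
  clr := [(11, 26), (24, 49)]
  white := [(10, 0)]

/-- Stage 9. -/
def stg9 : Stg where
  p := 11
  sup := [11, 24]
  roots := []
  kills := [(0, 4, 4, 8, none), (1, 8, 8, 3, none), (2, 4, 4, 6, none), (3, 8, 8, 1, none), (4, 0, 0, 8, (some 8)), (5, 0, 0, 7, (some 7)), (6, 4, 4, 2, none), (7, 0, 0, 5, (some 5)), (8, 0, 0, 4, (some 4)), (9, 0, 0, 18, (some 18)), (10, 0, 0, 21, (some 21)), (12, 4, 4, 19, none), (13, 4, 4, 22, none), (14, 4, 4, 25, none), (15, 8, 8, 20, none), (16, 8, 8, 23, none), (17, 8, 8, 26, none), (18, 0, 0, 9, (some 9)), (19, 4, 4, 12, none), (20, 8, 8, 15, none), (21, 0, 0, 10, (some 10)), (22, 4, 4, 13, none), (23, 8, 8, 16, none), (25, 4, 4, 14, none), (26, 8, 8, 17, none)]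
  dom := [11, 24]
  why := none
  moves := []
  clr := []
  white := [(24, 0)]

/-- Stage 10. -/
def stg10 : Stg where
  p := 24
  sup := [11, 24]
  roots := []
  kills := [(0, 4, 4, 8, none), (1, 8, 8, 3, none), (2, 4, 4, 6, none), (3, 8, 8, 1, none), (4, 0, 0, 8, (some 8)), (5, 0, 0, 7, (some 7)), (6, 4, 4, 2, none), (7, 0, 0, 5, (some 5)), (8, 0, 0, 4, (some 4)), (9, 0, 0, 18, (some 18)), (10, 0, 0, 21, (some 21)), (12, 4, 4, 19, none), (13, 4, 4, 22, none), (14, 4, 4, 25, none), (15, 8, 8, 20, none), (16, 8, 8, 23, none), (17, 8, 8, 26, none), (18, 0, 0, 9, (some 9)), (19, 4, 4, 12, none), (20, 8, 8, 15, none), (21, 0, 0, 10, (some 10)), (22, 4, 4, 13, none), (23, 8, 8, 16, none), (25, 4, 4, 14, none), (26, 8, 8, 17, none)]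
  dom := [24]
  why := (some (0, (some 11)))
  moves := []
  clr := []
  white := [(11, 0)]

/-- Stage 11. -/
def stg11 : Stg where
  p := 1
  sup := [1]
  roots := []
  kills := [(0, 4, 4, 8, none), (2, 4, 4, 6, none), (3, 7, 7, 2, none), (4, 0, 0, 8, none), (5, 0, 0, 7, none), (6, 4, 4, 2, none), (7, 0, 0, 5, none), (8, 0, 0, 4, none), (9, 0, 0, 18, none), (10, 0, 0, 21, none), (11, 0, 0, 24, none), (12, 4, 4, 19, none), (13, 4, 4, 22, none), (14, 4, 4, 25, none), (15, 10, 10, 14, none), (16, 9, 9, 14, none), (17, 9, 9, 13, none), (18, 0, 0, 9, none), (19, 4, 4, 12, none), (20, 7, 7, 12, none), (21, 0, 0, 10, none), (22, 4, 4, 13, none), (23, 7, 7, 13, none), (24, 0, 0, 11, none), (25, 4, 4, 14, none), (26, 7, 7, 14, none)]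
  dom := [1]
  why := none
  moves := []
  clr := []
  white := []

/-- Stage 12. -/
def stg12 : Stg where
  p := 2
  sup := [2]
  roots := []
  kills := [(0, 4, 4, 8, (some 8)), (1, 8, 8, 3, none), (3, 8, 8, 1, none), (4, 0, 0, 8, none), (5, 0, 0, 7, none), (6, 5, 5, 1, none), (7, 0, 0, 5, none), (8, 0, 0, 4, none), (9, 0, 0, 18, none), (10, 0, 0, 21, none), (11, 0, 0, 24, none), (12, 18, 18, 1, (some 1)), (13, 9, 9, 17, none), (14, 9, 9, 16, none), (15, 8, 8, 20, none), (16, 8, 8, 23, none), (17, 8, 8, 26, none), (18, 0, 0, 9, none), (19, 5, 5, 15, none), (20, 8, 8, 15, none), (21, 0, 0, 10, none), (22, 5, 5, 16, none), (23, 8, 8, 16, none), (24, 0, 0, 11, none), (25, 5, 5, 17, none), (26, 8, 8, 17, none)]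
  dom := [2]
  why := none
  moves := []
  clr := []
  white := []

/-- Stage 13. -/
def stg13 : Stg where
  p := 3
  sup := [3]
  roots := []
  kills := [(0, 4, 4, 8, none), (1, 5, 5, 6, none), (2, 4, 4, 6, none), (4, 0, 0, 8, none), (5, 0, 0, 7, none), (6, 4, 4, 2, none), (7, 0, 0, 5, none), (8, 0, 0, 4, none), (9, 0, 0, 18, none), (10, 0, 0, 21, none), (11, 0, 0, 24, none), (12, 4, 4, 19, none), (13, 4, 4, 22, none), (14, 4, 4, 25, none), (15, 5, 5, 19, none), (16, 5, 5, 22, none), (17, 5, 5, 25, none), (18, 0, 0, 9, none), (19, 4, 4, 12, none), (20, 21, 21, 25, none), (21, 0, 0, 10, none), (22, 4, 4, 13, none), (23, 18, 18, 25, none), (24, 0, 0, 11, none), (25, 4, 4, 14, none), (26, 18, 18, 22, none)]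
  dom := [3]
  why := none
  moves := []
  clr := []
  white := []

/-- Stage 14. -/
def stg14 : Stg where
  p := 6
  sup := [6]
  roots := []
  kills := [(0, 4, 4, 8, (some 8)), (1, 8, 8, 3, none), (2, 7, 7, 3, none), (3, 8, 8, 1, none), (4, 0, 0, 8, none), (5, 0, 0, 7, none), (7, 0, 0, 5, none), (8, 0, 0, 4, none), (9, 0, 0, 18, none), (10, 0, 0, 21, none), (11, 0, 0, 24, none), (12, 7, 7, 20, none), (13, 7, 7, 23, none), (14, 7, 7, 26, none), (15, 8, 8, 20, none), (16, 8, 8, 23, none), (17, 8, 8, 26, none), (18, 0, 0, 9, none), (19, 9, 9, 3, (some 3)), (20, 8, 8, 15, none), (21, 0, 0, 10, none), (22, 18, 18, 26, none), (23, 8, 8, 16, none), (24, 0, 0, 11, none), (25, 18, 18, 23, none), (26, 8, 8, 17, none)]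
  dom := [6]
  why := none
  moves := []
  clr := []
  white := []

/-- Stage 15. -/
def stg15 : Stg where
  p := 12
  sup := [12]
  roots := []
  kills := [(0, 4, 4, 8, (some 8)), (1, 8, 8, 3, none), (2, 4, 4, 6, (some 6)), (3, 8, 8, 1, none), (4, 0, 0, 8, none), (5, 0, 0, 7, none), (6, 4, 4, 2, (some 2)), (7, 0, 0, 5, none), (8, 0, 0, 4, none), (9, 0, 0, 18, none), (10, 0, 0, 21, none), (11, 0, 0, 24, none), (13, 9, 9, 17, none), (14, 9, 9, 16, none), (15, 8, 8, 20, none), (16, 8, 8, 23, none), (17, 8, 8, 26, none), (18, 0, 0, 9, none), (19, 5, 5, 15, none), (20, 8, 8, 15, none), (21, 0, 0, 10, none), (22, 5, 5, 16, none), (23, 8, 8, 16, none), (24, 0, 0, 11, none), (25, 5, 5, 17, none), (26, 8, 8, 17, none)]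
  dom := [12]
  why := none
  moves := []
  clr := []
  white := []

/-- Stage 16. -/
def stg16 : Stg where
  p := 13
  sup := [13]
  roots := []
  kills := [(0, 4, 4, 8, (some 8)), (1, 8, 8, 3, none), (2, 4, 4, 6, (some 6)), (3, 8, 8, 1, none), (4, 0, 0, 8, none), (5, 0, 0, 7, none), (6, 4, 4, 2, (some 2)), (7, 0, 0, 5, none), (8, 0, 0, 4, none), (9, 0, 0, 18, none), (10, 0, 0, 21, none), (11, 0, 0, 24, none), (12, 18, 18, 1, none), (14, 10, 10, 15, none), (15, 8, 8, 20, none), (16, 8, 8, 23, none), (17, 8, 8, 26, none), (18, 0, 0, 9, none), (19, 4, 4, 12, (some 12)), (20, 8, 8, 15, none), (21, 0, 0, 10, none), (22, 5, 5, 16, none), (23, 8, 8, 16, none), (24, 0, 0, 11, none), (25, 5, 5, 17, none), (26, 8, 8, 17, none)]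
  dom := [13]
  why := none
  moves := []
  clr := []
  white := []

/-- Stage 17. -/
def stg17 : Stg where
  p := 14
  sup := [14]
  roots := []
  kills := [(0, 4, 4, 8, (some 8)), (1, 8, 8, 3, none), (2, 4, 4, 6, (some 6)), (3, 8, 8, 1, none), (4, 0, 0, 8, none), (5, 0, 0, 7, none), (6, 4, 4, 2, (some 2)), (7, 0, 0, 5, none), (8, 0, 0, 4, none), (9, 0, 0, 18, none), (10, 0, 0, 21, none), (11, 0, 0, 24, none), (12, 18, 18, 1, none), (13, 21, 21, 1, none), (15, 8, 8, 20, none), (16, 8, 8, 23, none), (17, 8, 8, 26, none), (18, 0, 0, 9, none), (19, 4, 4, 12, (some 12)), (20, 8, 8, 15, none), (21, 0, 0, 10, none), (22, 4, 4, 13, (some 13)), (23, 8, 8, 16, none), (24, 0, 0, 11, none), (25, 5, 5, 17, none), (26, 8, 8, 17, none)]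
  dom := [14]
  why := none
  moves := []
  clr := []
  white := []

/-- Stage 18. -/
def stg18 : Stg where
  p := 15
  sup := [15]
  roots := []
  kills := [(0, 4, 4, 8, none), (1, 8, 8, 3, (some 3)), (2, 4, 4, 6, none), (3, 8, 8, 1, (some 1)), (4, 0, 0, 8, none), (5, 0, 0, 7, none), (6, 4, 4, 2, none), (7, 0, 0, 5, none), (8, 0, 0, 4, none), (9, 0, 0, 18, none), (10, 0, 0, 21, none), (11, 0, 0, 24, none), (12, 4, 4, 19, none), (13, 4, 4, 22, none), (14, 4, 4, 25, none), (16, 9, 9, 14, none), (17, 9, 9, 13, none), (18, 0, 0, 9, none), (19, 4, 4, 12, none), (20, 7, 7, 12, none), (21, 0, 0, 10, none), (22, 4, 4, 13, none), (23, 7, 7, 13, none), (24, 0, 0, 11, none), (25, 4, 4, 14, none), (26, 7, 7, 14, none)]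
  dom := [15]
  why := none
  moves := []
  clr := []
  white := []

/-- Stage 19. -/
def stg19 : Stg where
  p := 16
  sup := [16]
  roots := []
  kills := [(0, 4, 4, 8, none), (1, 8, 8, 3, (some 3)), (2, 4, 4, 6, none), (3, 8, 8, 1, (some 1)), (4, 0, 0, 8, none), (5, 0, 0, 7, none), (6, 4, 4, 2, none), (7, 0, 0, 5, none), (8, 0, 0, 4, none), (9, 0, 0, 18, none), (10, 0, 0, 21, none), (11, 0, 0, 24, none), (12, 4, 4, 19, none), (13, 4, 4, 22, none), (14, 4, 4, 25, none), (15, 18, 18, 2, none), (17, 9, 9, 13, (some 13)), (18, 0, 0, 9, none), (19, 4, 4, 12, none), (20, 8, 8, 15, (some 15)), (21, 0, 0, 10, none), (22, 4, 4, 13, none), (23, 7, 7, 13, none), (24, 0, 0, 11, none), (25, 4, 4, 14, none), (26, 7, 7, 14, none)]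
  dom := [16]
  why := none
  moves := []
  clr := []
  white := []

/-- Stage 20. -/
def stg20 : Stg where
  p := 17
  sup := [17]
  roots := []
  kills := [(0, 4, 4, 8, none), (1, 8, 8, 3, (some 3)), (2, 4, 4, 6, none), (3, 8, 8, 1, (some 1)), (4, 0, 0, 8, none), (5, 0, 0, 7, none), (6, 4, 4, 2, none), (7, 0, 0, 5, none), (8, 0, 0, 4, none), (9, 0, 0, 18, none), (10, 0, 0, 21, none), (11, 0, 0, 24, none), (12, 4, 4, 19, none), (13, 4, 4, 22, none), (14, 4, 4, 25, none), (15, 18, 18, 2, none), (16, 9, 9, 14, (some 14)), (18, 0, 0, 9, none), (19, 4, 4, 12, none), (20, 8, 8, 15, (some 15)), (21, 0, 0, 10, none), (22, 4, 4, 13, none), (23, 8, 8, 16, (some 16)), (24, 0, 0, 11, none), (25, 4, 4, 14, none), (26, 7, 7, 14, none)]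
  dom := [17]
  why := none
  moves := []
  clr := []
  white := []

/-- Stage 21. -/
def stg21 : Stg where
  p := 19
  sup := [19]
  roots := []
  kills := [(0, 4, 4, 8, (some 8)), (1, 8, 8, 3, none), (2, 4, 4, 6, (some 6)), (3, 8, 8, 1, none), (4, 0, 0, 8, none), (5, 0, 0, 7, none), (6, 4, 4, 2, (some 2)), (7, 0, 0, 5, none), (8, 0, 0, 4, none), (9, 0, 0, 18, none), (10, 0, 0, 21, none), (11, 0, 0, 24, none), (12, 7, 7, 20, none), (13, 7, 7, 23, none), (14, 7, 7, 26, none), (15, 8, 8, 20, none), (16, 8, 8, 23, none), (17, 8, 8, 26, none), (18, 0, 0, 9, none), (20, 8, 8, 15, none), (21, 0, 0, 10, none), (22, 4, 4, 13, (some 13)), (23, 8, 8, 16, none), (24, 0, 0, 11, none), (25, 4, 4, 14, (some 14)), (26, 8, 8, 17, none)]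
  dom := [19]
  why := none
  moves := []
  clr := []
  white := []

/-- Stage 22. -/
def stg22 : Stg where
  p := 20
  sup := [20]
  roots := []
  kills := [(0, 4, 4, 8, none), (1, 8, 8, 3, (some 3)), (2, 4, 4, 6, none), (3, 8, 8, 1, (some 1)), (4, 0, 0, 8, none), (5, 0, 0, 7, none), (6, 4, 4, 2, none), (7, 0, 0, 5, none), (8, 0, 0, 4, none), (9, 0, 0, 18, none), (10, 0, 0, 21, none), (11, 0, 0, 24, none), (12, 4, 4, 19, none), (13, 4, 4, 22, none), (14, 4, 4, 25, none), (15, 5, 5, 19, none), (16, 5, 5, 22, none), (17, 5, 5, 25, none), (18, 0, 0, 9, none), (19, 4, 4, 12, none), (21, 0, 0, 10, none), (22, 4, 4, 13, none), (23, 8, 8, 16, (some 16)), (24, 0, 0, 11, none), (25, 4, 4, 14, none), (26, 8, 8, 17, (some 17))]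
  dom := [20]
  why := none
  moves := []
  clr := []
  white := []

/-- Stage 23. -/
def stg23 : Stg where
  p := 22
  sup := [22]
  roots := []
  kills := [(0, 4, 4, 8, (some 8)), (1, 8, 8, 3, none), (2, 4, 4, 6, (some 6)), (3, 8, 8, 1, none), (4, 0, 0, 8, none), (5, 0, 0, 7, none), (6, 4, 4, 2, (some 2)), (7, 0, 0, 5, none), (8, 0, 0, 4, none), (9, 0, 0, 18, none), (10, 0, 0, 21, none), (11, 0, 0, 24, none), (12, 4, 4, 19, (some 19)), (13, 7, 7, 23, none), (14, 7, 7, 26, none), (15, 8, 8, 20, none), (16, 8, 8, 23, none), (17, 8, 8, 26, none), (18, 0, 0, 9, none), (19, 4, 4, 12, (some 12)), (20, 8, 8, 15, none), (21, 0, 0, 10, none), (23, 8, 8, 16, none), (24, 0, 0, 11, none), (25, 4, 4, 14, (some 14)), (26, 8, 8, 17, none)]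
  dom := [22]
  why := none
  moves := []
  clr := []
  white := []

/-- Stage 24. -/
def stg24 : Stg where
  p := 23
  sup := [23]
  roots := []
  kills := [(0, 4, 4, 8, none), (1, 8, 8, 3, (some 3)), (2, 4, 4, 6, none), (3, 8, 8, 1, (some 1)), (4, 0, 0, 8, none), (5, 0, 0, 7, none), (6, 4, 4, 2, none), (7, 0, 0, 5, none), (8, 0, 0, 4, none), (9, 0, 0, 18, none), (10, 0, 0, 21, none), (11, 0, 0, 24, none), (12, 4, 4, 19, none), (13, 4, 4, 22, none), (14, 4, 4, 25, none), (15, 8, 8, 20, (some 20)), (16, 5, 5, 22, none), (17, 5, 5, 25, none), (18, 0, 0, 9, none), (19, 4, 4, 12, none), (20, 8, 8, 15, (some 15)), (21, 0, 0, 10, none), (22, 4, 4, 13, none), (24, 0, 0, 11, none), (25, 4, 4, 14, none), (26, 8, 8, 17, (some 17))]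
  dom := [23]
  why := none
  moves := []
  clr := []
  white := []

/-- Stage 25. -/
def stg25 : Stg where
  p := 25
  sup := [25]
  roots := []
  kills := [(0, 4, 4, 8, (some 8)), (1, 8, 8, 3, none), (2, 4, 4, 6, (some 6)), (3, 8, 8, 1, none), (4, 0, 0, 8, none), (5, 0, 0, 7, none), (6, 4, 4, 2, (some 2)), (7, 0, 0, 5, none), (8, 0, 0, 4, none), (9, 0, 0, 18, none), (10, 0, 0, 21, none), (11, 0, 0, 24, none), (12, 4, 4, 19, (some 19)), (13, 4, 4, 22, (some 22)), (14, 7, 7, 26, none), (15, 8, 8, 20, none), (16, 8, 8, 23, none), (17, 8, 8, 26, none), (18, 0, 0, 9, none), (19, 4, 4, 12, (some 12)), (20, 8, 8, 15, none), (21, 0, 0, 10, none), (22, 4, 4, 13, (some 13)), (23, 8, 8, 16, none), (24, 0, 0, 11, none), (26, 8, 8, 17, none)]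
  dom := [25]
  why := none
  moves := []
  clr := []
  white := []

/-- Stage 26. -/
def stg26 : Stg where
  p := 26
  sup := [26]
  roots := []
  kills := [(0, 4, 4, 8, none), (1, 8, 8, 3, (some 3)), (2, 4, 4, 6, none), (3, 8, 8, 1, (some 1)), (4, 0, 0, 8, none), (5, 0, 0, 7, none), (6, 4, 4, 2, none), (7, 0, 0, 5, none), (8, 0, 0, 4, none), (9, 0, 0, 18, none), (10, 0, 0, 21, none), (11, 0, 0, 24, none), (12, 4, 4, 19, none), (13, 4, 4, 22, none), (14, 4, 4, 25, none), (15, 8, 8, 20, (some 20)), (16, 8, 8, 23, (some 23)), (17, 5, 5, 25, none), (18, 0, 0, 9, none), (19, 4, 4, 12, none), (20, 8, 8, 15, (some 15)), (21, 0, 0, 10, none), (22, 4, 4, 13, none), (23, 8, 8, 16, (some 16)), (24, 0, 0, 11, none), (25, 4, 4, 14, none)]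
  dom := [26]
  why := none
  moves := []
  clr := []
  white := []

/-- The stages. -/
def stgs : List Stg :=
  [stg0, stg1, stg2, stg3, stg4, stg5, stg6, stg7, stg8, stg9, stg10, stg11, stg12, stg13, stg14, stg15, stg16, stg17, stg18, stg19, stg20, stg21, stg22, stg23, stg24, stg25, stg26]

/-- The swapped pivots. -/
def swapPairs : List (ℕ × ℕ) := [(0, 0), (4, 4), (8, 8), (5, 5), (7, 7), (9, 9), (18, 18), (10, 10), (21, 21), (11, 24)]

/-- The kills of a coordinate annihilated by the swapped pivots. -/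
def swapKills : List (ℕ × ℕ × ℕ × ℕ × Option ℕ) := [(0, 4, 4, 8, none), (1, 11, 24, 14, none), (2, 4, 4, 6, none), (3, 7, 7, 2, none), (4, 0, 0, 8, none), (5, 0, 0, 7, none), (6, 4, 4, 2, none), (7, 0, 0, 5, none), (8, 0, 0, 4, none), (9, 0, 0, 18, none), (10, 0, 0, 21, none), (11, 0, 0, 24, none), (12, 4, 4, 19, none), (13, 4, 4, 22, none), (14, 4, 4, 25, none), (15, 10, 10, 14, none), (16, 9, 9, 14, none), (17, 9, 9, 13, none), (18, 0, 0, 9, none), (19, 4, 4, 12, none), (20, 7, 7, 12, none), (21, 0, 0, 10, none), (22, 4, 4, 13, none), (23, 7, 7, 13, none), (24, 0, 0, 11, none), (25, 4, 4, 14, none), (26, 7, 7, 14, none)]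

/-- Six coordinates determining a diagonal isometry, with exponents for the six simple coroots. -/
def sixL : List ℕ := [0, 1, 2, 3, 9, 10]

/-- The exponents. -/
def invL : List (List ℤ) := [[1, 0, 0, 0, 0, 0], [1, 0, 0, 1, 0, 1], [1, 0, 0, 1, 0, 0], [2, 0, 0, 2, 1, 1], [2, 0, -1, 1, 1, 1], [2, -1, -1, 0, 1, 1]]

/-- The simple roots. -/
def simpL : List ℕ := [56, 46, 42, 39, 37, 36]

/-- The exponents of the coroot elements. -/
def hexp : List (List ℤ) := [[1, 1, 1, -1, -1, -1, 0, 0, 0, 0, 0, 0, 0, 0, 0, 0, 0, 0, -1, 1, 0, -1, 1, 0, -1, 1, 0], [0, 0, 0, 0, 0, 0, 0, 0, 0, -1, 1, 0, -1, 1, 0, -1, 1, 0, 1, 1, 1, -1, -1, -1, 0, 0, 0], [0, -1, -1, 1, 0, 0, 1, 0, 0, -1, -1, 0, 0, 0, 1, 0, 0, 1, 1, 0, 0, 1, 0, 0, 0, -1, -1], [0, 0, 1, 0, 0, 1, -1, -1, 0, 1, 0, 0, 1, 0, 0, 0, -1, -1, -1, -1, 0, 0, 0, 1, 0, 0, 1], [0, 1, -1, 0, 1, -1, 0, 1, -1, 0, 0, 0, -1, -1, -1, 1, 1, 1, 0, 0, 0, 0, 0, 0, 0, 0, 0],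 [0, -1, 0, 0, -1, 0, 1, 0, 1, 0, 0, -1, 1, 1, 0, 0, 0, -1, 0, 0, -1, 0, 0, -1, 1, 1, 0]]

/-- The propagation from the six coordinates. -/
def torSteps : List (ℕ × ℕ × ℕ) := [(8, 1, 3), (7, 2, 3), (18, 0, 9), (21, 0, 10), (12, 1, 18), (13, 1, 21), (15, 2, 18), (16, 2, 21), (19, 3, 9), (22, 3, 10), (4, 12, 19), (5, 15, 19), (20, 7, 12), (23, 7, 13), (6, 1, 5), (17, 9, 13), (14, 9, 16), (11, 12, 16), (26, 18, 22), (25, 18, 23), (24, 19, 23)]

end Cfsg.Lib.Chev.E6Cubic
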