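import Cfsg.Agent.Lib.Chev.E6Cubic.Surj
import Cfsg.Agent.Lib.Chev.D4Equiv
import Cfsg.Agent.Lib.Chev.FullE6
import Cfsg.Agent.S1054
import Cfsg.Prelude.Def_ChevE6

/-!
The cubic isometry group of type E6 modulo its centre is the Chevalley group.
-/

set_option autoImplicit false
set_option maxRecDepth 100000

namespace Cfsg.Lib.Chev.E6Cubic

open Cfsg.Lie Matrix

variable {F : Type*} [Field F]

theorem nonempty_equiv (hF : ∃ s : F, s ≠ 0 ∧ s ≠ 1) : Nonempty (E6 F ≃* ↥(chevE6.group F)) := by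
  let St := chevE6.SteinbergGroup F
  let C := fullCertE6.comm.cert
  let π := (stHom C fullCertE6.comm (F := F))
  have hπ : ∀ r < chevE6.nroots, ∀ t, π (chevE6.stGen F r t) = xg C r t := fun r hr t =>
    stHom_gen C fullCertE6.comm hr t
  let π' : St →* ↥(chevE6.group F) := π.codRestrict _ fun g => (stHom_range C fullCertE6 π hπ).le ⟨g, rfl⟩
  have hsurj : Function.Surjective π' := fun y => by
    obtain ⟨g, hg⟩ := (stHom_range C fullCertE6 π hπ).ge y.2
    exact ⟨g, Subtype.ext hg⟩
  let ρ : St →* ↥(E6univ F) := (MatRep.repHom repOK).codRestrict _ fun g => rootGrp_le ⟨g, rfl⟩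
  have hρ : Function.Surjective ρ := fun y => by
    have hy : (y : GL I27 F) ∈ rootGrp F := (E6univ_eq hF).le y.2
    obtain ⟨g, hg⟩ := hy
    exact ⟨g, Subtype.ext hg⟩
  let ψ := (QuotientGroup.mk' (Subgroup.center ↥(E6univ F))).comp ρ
  have hψ : Function.Surjective ψ := (QuotientGroup.mk'_surjective _).comp hρ
  have hker : π'.ker ≤ ψ.ker := fun g hg => by
    have hg' : π g = 1 := congrArg Subtype.val hg
    exact (QuotientGroup.eq_one_iff _).2
      (D4Orth.map_center_le' _ hρ (st_ker_le C fullCertE6 (by decide +kernel) π hπ hg').2)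
  let f := π'.liftOfSurjective hsurj ⟨ψ, hker⟩
  have hf : Function.Surjective f := fun y => by
    obtain ⟨g, rfl⟩ := hψ y
    exact ⟨π' g, MonoidHom.liftOfRightInverse_comp_apply _ _ _ _ g⟩
  have hsimple := (Cfsg.Agent.S1054.result (F := F) chevE6 (by simp)).1
  rcases (hsimple.eq_bot_or_eq_top_of_normal f.ker inferInstance) with hb | ht
  · exact ⟨(MulEquiv.ofBijective f ⟨(MonoidHom.ker_eq_bot_iff f).1 hb, hf⟩).symm⟩
  · exfalso
    have hall : ∀ g : St, ρ g ∈ Subgroup.center _ := fun g => by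
      have h1 : f (π' g) = 1 := MonoidHom.mem_ker.1 (by rw [ht]; exact Subgroup.mem_top _)
      rw [MonoidHom.liftOfRightInverse_comp_apply] at h1
      exact (QuotientGroup.eq_one_iff _).1 h1
    have hcom : rt (F := F) 36 1 * rt 35 1 = rt 35 1 * rt 36 1 :=
      congrArg Subtype.val (Subgroup.mem_center_iff.1 (hall (chevE6.stGen F 35 1)) (ρ (chevE6.stGen F 36 1)))
    set a := ((eL 36).headD (0, 0, 0)).1 with hae
    set b := ((eL 36).headD (0, 0, 0)).2.1 with hbe
    have hd : srcIs 36 a b = true ∧ srcIs 35 b a = true ∧ a < 27 ∧ b < 27 ∧ a ≠ b ∧ srcL (eL 36) b = [] := by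
      rw [hae, hbe]; decide +kernel
    obtain ⟨h1, h2, ha, hb, hab, hbb⟩ := hd
    obtain ⟨c, hc, hc0⟩ := srcIs_spec (F := F) h1
    obtain ⟨c', hc', hc0'⟩ := srcIs_spec (F := F) h2
    have eab : co (dl (F := F) b) a = 0 := by rw [co_dl hb ha, if_neg hab.symm]
    have ebb : co (dl (F := F) b) b = 1 := by rw [co_dl hb hb, if_pos rfl]
    have ca : co (act (rt 36 (1 : F)) (dl b)) a = c := by
      rw [co_rt (show 36 < 72 by decide) 1 _ ha, hc]; simp [eab, ebb]
    have cb : ∀ v : I27 → F, co (act (rt 36 (1 : F)) v) b = co v b := fun v => by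
      rw [co_rt (show 36 < 72 by decide) 1 _ hb, hbb]; simp
    have db : ∀ v : I27 → F, co (act (rt 35 (1 : F)) v) b = co v b + (c' : F) * co v a := fun v => by
      rw [co_rt (show 35 < 72 by decide) 1 _ hb, hc']; simp
    have h := congrArg (fun g => co (act g (dl (F := F) b)) b) hcom
    simp only [act_mul] at h
    rw [cb, db, db, cb, ca, eab, ebb] at h
    exact mul_ne_zero hc0' hc0 (by simpa using h.symm)

end Cfsg.Lib.Chev.E6Cubic
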