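import Cfsg.Agent.Lib.Chev.E6Cubic.Data
import Cfsg.Agent.Lib.Chev.MatRep
import Cfsg.Prelude.Def_ChevE6

/-!
The twenty-seven dimensional representation of the Steinberg group of type E6.
-/

set_option autoImplicit false
set_option linter.unusedSectionVars false
set_option maxRecDepth 100000

namespace Cfsg.Lib.Chev.E6Cubic

open Cfsg.Lie Matrix

/-- The coordinate with a given number. -/
def ix (a : ℕ) : I27 :=
  (⟨a / 9 % 3, Nat.mod_lt _ (by decide)⟩, ⟨a / 3 % 3, Nat.mod_lt _ (by decide)⟩, ⟨a % 3, Nat.mod_lt _ (by decide)⟩)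

/-- The number of a coordinate. -/
def cd (x : I27) : ℕ := 9 * x.1.1 + 3 * x.2.1.1 + x.2.2.1

theorem cd_lt (x : I27) : cd x < 27 := by
  obtain ⟨⟨k, hk⟩, ⟨i, hi⟩, ⟨j, hj⟩⟩ := x; simp only [cd]; omega

theorem cd_ix {a : ℕ} (ha : a < 27) : cd (ix a) = a := by simp only [cd, ix]; omega

theorem ix_cd (x : I27) : ix (cd x) = x := by
  obtain ⟨⟨k, hk⟩, ⟨i, hi⟩, ⟨j, hj⟩⟩ := x
  simp only [cd, ix]
  refine Prod.ext (Fin.ext ?_) (Prod.ext (Fin.ext ?_) (Fin.ext ?_)) <;> simp only <;> omega

theorem ix_inj {a b : ℕ} (ha : a < 27) (hb : b < 27) : ix a = ix b ↔ a = b :=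
  ⟨fun h => by rw [← cd_ix ha, ← cd_ix hb, h], fun h => h ▸ rfl⟩

/-! ### Cancellation of weighted lists -/

/-- The coefficients of every key cancel. -/
def canc (l : List (ℕ × ℤ)) : Bool :=
  l.all fun k => decide (((l.filter fun p => p.1 == k.1).map Prod.snd).sum = 0)

theorem sum_eq_zero_of_canc {M : Type*} [AddCommGroup M] (f : ℕ → M) {l : List (ℕ × ℤ)} (h : canc l = true) :
    (l.map fun p => p.2 • f p.1).sum = 0 := by
  simp only [canc, List.all_eq_true, decide_eq_true_eq] at h
  suffices H : ∀ (n : ℕ) (l : List (ℕ × ℤ)), l.length ≤ n →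
      (∀ k ∈ l, ((l.filter fun p => p.1 == k.1).map Prod.snd).sum = 0) → (l.map fun p => p.2 • f p.1).sum = 0 from
    H l.length l le_rfl h
  intro n
  induction n with
  | zero => intro l hl _; simp [List.length_eq_zero_iff.1 (Nat.le_zero.1 hl)]
  | succ n ih =>
    intro l hl h
    cases l with
    | nil => rfl
    | cons a l =>
      obtain ⟨k, c⟩ := a
      have key : ∀ l : List (ℕ × ℤ), (l.map fun p => p.2 • f p.1).sum =
          ((l.filter fun p => p.1 == k).map Prod.snd).sum • f k +
            ((l.filter fun p => !(p.1 == k)).map fun p => p.2 • f p.1).sum := by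
        intro l
        induction l with
        | nil => simp
        | cons p l ih =>
          obtain ⟨a, b⟩ := p
          by_cases hak : a = k
          · subst hak; simp [ih, add_smul, add_assoc]
          · simp [hak, ih, add_left_comm]
      rw [key, h (k, c) List.mem_cons_self, zero_smul, zero_add]
      refine ih _ ?_ fun q hq => ?_
      · have h1 : ((k, c) :: l).filter (fun p => !(p.1 == k)) = l.filter fun p => !(p.1 == k) :=
          List.filter_cons_of_neg (by simp)
        rw [h1]
        exact (List.length_filter_le _ _).trans (Nat.le_of_succ_le_succ hl)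
      · obtain ⟨hq1, hq2⟩ := List.mem_filter.1 hq
        rw [List.filter_filter, ← h q hq1]
        refine congrArg List.sum (congrArg (List.map Prod.snd) (List.filter_congr fun p _ => ?_))
        by_cases hp : p.1 = q.1
        · simp only [hp, hq2, Bool.and_true, Bool.true_and]
        · simp [hp]

/-! ### Sparse matrices -/

/-- A sparse matrix. -/
def toM (l : List (ℕ × ℕ × ℤ)) : Matrix I27 I27 ℤ :=
  (l.map fun p => Matrix.single (ix p.1) (ix p.2.1) p.2.2).sum

/-- The product of two sparse matrices. -/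
def smulL (l l' : List (ℕ × ℕ × ℤ)) : List (ℕ × ℕ × ℤ) :=
  l.flatMap fun p => (l'.filter fun q => p.2.1 == q.1).map fun q => (p.1, q.2.1, p.2.2 * q.2.2)

/-- A multiple. -/
def scaleL (c : ℤ) (l : List (ℕ × ℕ × ℤ)) : List (ℕ × ℕ × ℤ) := l.map fun p => (p.1, p.2.1, c * p.2.2)

/-- All indices are in range. -/
def okL (l : List (ℕ × ℕ × ℤ)) : Bool := l.all fun p => Nat.blt p.1 27 && Nat.blt p.2.1 27

/-- The entries agree. -/
def eqL (l l' : List (ℕ × ℕ × ℤ)) : Bool :=
  okL l && okL l' && canc ((l ++ scaleL (-1) l').map fun p => (32 * p.1 + p.2.1, p.2.2))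

theorem toM_append (l l' : List (ℕ × ℕ × ℤ)) : toM (l ++ l') = toM l + toM l' := by
  simp [toM, List.map_append, List.sum_append]

theorem toM_nil : toM [] = 0 := rfl

theorem toM_smul (c : ℤ) (l : List (ℕ × ℕ × ℤ)) : c • toM l = toM (scaleL c l) := by
  induction l with
  | nil => simp [toM, scaleL]
  | cons p l ih =>
    simp only [toM, scaleL, List.map_cons, List.sum_cons, smul_add] at ih ⊢
    rw [ih, Matrix.smul_single, smul_eq_mul]

theorem toM_of_eqL {l l' : List (ℕ × ℕ × ℤ)} (h : eqL l l' = true) : toM l = toM l' := by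
  simp only [eqL, Bool.and_eq_true] at h
  obtain ⟨⟨hl, hl'⟩, hc⟩ := h
  have h0 := sum_eq_zero_of_canc (fun k => Matrix.single (ix (k / 32)) (ix (k % 32)) (1 : ℤ)) hc
  have hok : ∀ p ∈ l ++ scaleL (-1) l', p.1 < 27 ∧ p.2.1 < 27 := by
    intro p hp
    simp only [okL, List.all_eq_true, Bool.and_eq_true, Nat.blt_eq] at hl hl'
    rcases List.mem_append.1 hp with hp | hp
    · exact hl p hp
    · simp only [scaleL, List.mem_map] at hp
      obtain ⟨q, hq, rfl⟩ := hp
      exact hl' q hq
  have e : toM (l ++ scaleL (-1) l') = 0 := by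
    rw [← h0, List.map_map, toM]
    refine congrArg List.sum (List.map_congr_left fun p hp => ?_)
    obtain ⟨h1, h2⟩ := hok p hp
    simp only [Function.comp_apply]
    rw [show (32 * p.1 + p.2.1) / 32 = p.1 by omega, show (32 * p.1 + p.2.1) % 32 = p.2.1 by omega,
      Matrix.smul_single, smul_eq_mul, mul_one]
  rw [toM_append, ← toM_smul, neg_one_smul, ← sub_eq_add_neg] at e
  exact sub_eq_zero.1 e

theorem single_mul_toM {i j : ℕ} (hj : j < 27) (c : ℤ) : ∀ {l : List (ℕ × ℕ × ℤ)}, okL l = true →
    Matrix.single (ix i) (ix j) c * toM l =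
      toM ((l.filter fun q => j == q.1).map fun q => (i, q.2.1, c * q.2.2))
  | [], _ => by simp [toM]
  | (a, b, d) :: l, h => by
    simp only [okL, List.all_cons, Bool.and_eq_true, Nat.blt_eq] at h
    have ih := single_mul_toM (i := i) hj c (l := l) h.2
    rw [show toM ((a, b, d) :: l) = Matrix.single (ix a) (ix b) d + toM l from rfl, mul_add, ih]
    by_cases hja : j = a
    · subst hja
      rw [Matrix.single_mul_single_same, List.filter_cons_of_pos (by simp)]
      rfl
    · rw [Matrix.single_mul_single_of_ne _ _ _ _ (fun e => hja ((ix_inj hj h.1.1).1 e)), zero_add,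
        List.filter_cons_of_neg (by simpa using hja)]

theorem toM_mul : ∀ {l l' : List (ℕ × ℕ × ℤ)}, okL l = true → okL l' = true → toM l * toM l' = toM (smulL l l')
  | [], _, _, _ => by simp [toM, smulL]
  | (i, j, c) :: l, l', h, h' => by
    simp only [okL, List.all_cons, Bool.and_eq_true, Nat.blt_eq] at h
    rw [show toM ((i, j, c) :: l) = Matrix.single (ix i) (ix j) c + toM l from rfl, add_mul,
      single_mul_toM h.1.2 c h', toM_mul h.2 h', ← toM_append]
    rfl

/-- The check of the relations. -/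
def chkAt (r : ℕ) : Bool :=
  let n := chevE6.neg r
  okL (eL r) && Nat.blt n 72 && Nat.beq (chevE6.neg n) r && eqL (smulL (eL r) (eL r)) [] &&
    eqL (smulL (smulL (eL r) (eL n)) (eL r)) (eL r) &&
    (List.range 72).all fun s => Nat.beq s r || Nat.beq s n ||
      (eqL (smulL (smulL (eL s) (eL r)) (eL s)) [] &&
        match chevE6.commTerms r s with
        | [] => eqL (smulL (eL s) (eL r)) (smulL (eL r) (eL s))
        | [(k, c, 1, 1)] => Nat.blt k 72 &&
            eqL (smulL (eL s) (eL r)) (scaleL (-c) (eL k) ++ smulL (eL r) (eL s))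
        | _ => false)

theorem chk0 : ((List.range 18).map (· + 0)).all chkAt = true := by decide +kernel
theorem chk1 : ((List.range 18).map (· + 18)).all chkAt = true := by decide +kernel
theorem chk2 : ((List.range 18).map (· + 36)).all chkAt = true := by decide +kernel
theorem chk3 : ((List.range 18).map (· + 54)).all chkAt = true := by decide +kernel

theorem chk_all (r : ℕ) (hr : r < 72) : chkAt r = true := by
  have h0 := chk0; have h1 := chk1; have h2 := chk2; have h3 := chk3
  simp only [List.all_map, List.all_eq_true, List.mem_range, Function.comp_apply] at h0 h1 h2 h3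
  rcases Nat.lt_or_ge r 18 with h | h
  · exact h0 r h
  rcases Nat.lt_or_ge r 36 with h' | h'
  · exact (show r - 18 + 18 = r by omega) ▸ h1 (r - 18) (by omega)
  rcases Nat.lt_or_ge r 54 with h'' | h''
  · exact (show r - 36 + 36 = r by omega) ▸ h2 (r - 36) (by omega)
  · exact (show r - 54 + 54 = r by omega) ▸ h3 (r - 54) (by omega)

theorem okL_smulL {l l' : List (ℕ × ℕ × ℤ)} (h : okL l = true) (h' : okL l' = true) : okL (smulL l l') = true := by
  simp only [okL, smulL, List.all_eq_true, List.mem_flatMap, List.mem_map, List.mem_filter, Bool.and_eq_true] at h h' ⊢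
  rintro p ⟨q, hq, q', ⟨hq', -⟩, rfl⟩
  exact ⟨(h q hq).1, (h' q' hq').2⟩

/-- The representation. -/
def e6E (r : ℕ) : Matrix I27 I27 ℤ := toM (eL r)

theorem okL_eL (r : ℕ) (hr : r < 72) : okL (eL r) = true := by
  have := chk_all r hr
  simp only [chkAt, Bool.and_eq_true] at this
  exact this.1.1.1.1.1

theorem repOK : MatRep.RepOK chevE6 e6E := by
  have ok := okL_eL
  refine ⟨fun r hr => ?_, fun r hr => ?_, fun r hr => ?_, fun r hr s hs h1 h2 => ?_, fun r hr s hs h1 h2 => ?_⟩ <;>
    have hc := chk_all r hr <;> simp only [chkAt, Bool.and_eq_true, List.all_eq_true, List.mem_range, Bool.or_eq_true,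
      Nat.blt_eq] at hc
  · exact ⟨hc.1.1.1.1.2, Nat.eq_of_beq_eq_true hc.1.1.1.2⟩
  · rw [e6E, toM_mul (ok r hr) (ok r hr), toM_of_eqL hc.1.1.2, toM_nil]
  · have hn := ok _ hc.1.1.1.1.2
    rw [e6E, e6E, toM_mul (ok r hr) hn, toM_mul (okL_smulL (ok r hr) hn) (ok r hr), toM_of_eqL hc.1.2]
  · rcases hc.2 s hs with (e | e) | e
    · exact absurd (Nat.eq_of_beq_eq_true e) h1
    · exact absurd (Nat.eq_of_beq_eq_true e) h2
    · rw [e6E, e6E, toM_mul (ok s hs) (ok r hr), toM_mul (okL_smulL (ok s hs) (ok r hr)) (ok s hs), toM_of_eqL e.1,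
        toM_nil]
  · rcases hc.2 s hs with (e | e) | e
    · exact absurd (Nat.eq_of_beq_eq_true e) h1
    · exact absurd (Nat.eq_of_beq_eq_true e) h2
    · obtain ⟨-, e⟩ := e
      split at e
      · rename_i he
        refine Or.inl ⟨he, ?_⟩
        rw [e6E, e6E, toM_mul (ok s hs) (ok r hr), toM_mul (ok r hr) (ok s hs), toM_of_eqL e, sub_self]
      · rename_i k c he
        rw [Bool.and_eq_true, Nat.blt_eq] at e
        refine Or.inr ⟨k, c, he, e.1, ?_⟩
        rw [e6E, e6E, e6E, toM_mul (ok s hs) (ok r hr), toM_mul (ok r hr) (ok s hs), toM_of_eqL e.2, toM_append,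
          ← toM_smul, add_sub_cancel_right]
      · exact absurd e Bool.false_ne_true

end Cfsg.Lib.Chev.E6Cubic
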