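import Cfsg.Agent.Lib.Chev.E6Cubic.Form

/-!
Normalisation of the image of a coordinate vector under an isometry of the cubic form.
-/

set_option autoImplicit false
set_option linter.unusedSectionVars false
set_option maxRecDepth 100000

namespace Cfsg.Lib.Chev.E6Cubic

open Cfsg.Lie Matrix

variable {F : Type*} [Field F]

/-- A sign. -/
def isPm (c : ℤ) : Bool := c == 1 || c == -1

theorem pm_ne {c : ℤ} (h : isPm c = true) : (c : F) ≠ 0 := by
  simp only [isPm, Bool.or_eq_true, beq_iff_eq] at h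
  rcases h with rfl | rfl <;> simp

/-- The unique source of a target. -/
def srcIs (r a b : ℕ) : Bool :=
  match srcL (eL r) a with
  | [(x, c)] => x == b && isPm c
  | _ => false

theorem srcIs_spec {r a b : ℕ} (h : srcIs r a b = true) :
    ∃ c : ℤ, srcL (eL r) a = [(b, c)] ∧ (c : F) ≠ 0 := by
  unfold srcIs at h
  split at h
  · rename_i x c he
    simp only [Bool.and_eq_true, beq_iff_eq] at h
    exact ⟨c, by rw [he, h.1], pm_ne h.2⟩
  · exact absurd h Bool.false_ne_true

/-- The unique third coordinate. -/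
def thirdIs (q x z : ℕ) : Bool :=
  match grad2 q x with
  | [(a, e)] => a == z && isPm e
  | _ => false

theorem thirdIs_spec {q x z : ℕ} (h : thirdIs q x z = true) (hq : q < 27) (hx : x < 27) (v : I27 → F) :
    ∃ e : F, e ≠ 0 ∧ phi (dl q) v (dl x) = e * co v z := by
  unfold thirdIs at h
  split at h
  · rename_i a e he
    simp only [Bool.and_eq_true, beq_iff_eq] at h
    exact ⟨e, pm_ne h.2, by rw [phi_dl_dl hq hx, he, h.1]; simp⟩
  · exact absurd h Bool.false_ne_true

/-- The check of a witness of vanishing. -/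
def killOK (pr : List (ℕ × ℕ)) (p : ℕ) (k : ℕ × ℕ × ℕ × ℕ × Option ℕ) : Bool :=
  pr.contains (k.2.1, k.2.2.1) && Nat.blt k.2.1 27 && Nat.blt k.2.2.1 27 && Nat.blt k.2.2.2.1 27 &&
    thirdIs k.2.2.1 k.2.2.2.1 k.1 &&
    match k.2.2.2.2 with
    | none => (grad k.2.1).all fun m => !(m.1 == p) && !(m.2.1 == p)
    | some xp => pr.contains (xp, k.2.2.2.1) && Nat.blt xp 27 && (grad2 k.2.1 xp).all fun m => !(m.1 == p)

/-- The images of some coordinate lines are known. -/
def Maps (g : GL I27 F) (pr : List (ℕ × ℕ)) : Prop :=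
  ∀ q ∈ pr, ∃ c : F, c ≠ 0 ∧ act g (dl q.1) = c • dl q.2

theorem kill_zero {g : GL I27 F} (hg : g ∈ E6univ F) (hF : ∃ s : F, s ≠ 0 ∧ s ≠ 1) {pr : List (ℕ × ℕ)}
    (hm : Maps g pr) {p : ℕ} (hp : p < 27) {k : ℕ × ℕ × ℕ × ℕ × Option ℕ} (hk : killOK pr p k = true) :
    co (act g (dl p)) k.1 = 0 := by
  obtain ⟨z, q, q', x, o⟩ := k
  simp only [killOK, Bool.and_eq_true, List.contains_iff_mem, Nat.blt_eq] at hk
  obtain ⟨⟨⟨⟨⟨hqm, hq⟩, hq'⟩, hx⟩, hth⟩, hk⟩ := hk
  obtain ⟨e, he, hphi⟩ := thirdIs_spec hth hq' hx (act g (dl p))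
  obtain ⟨c, hc, hgq⟩ := hm _ hqm
  simp only at hgq ⊢
  suffices h : phi (dl q') (act g (dl p)) (dl x) = 0 by
    rw [hphi] at h; exact (mul_eq_zero.1 h).resolve_left he
  cases o with
  | none =>
    simp only [List.all_eq_true, Bool.and_eq_true, Bool.not_eq_eq_eq_not, Bool.not_true, beq_eq_false_iff_ne] at hk
    have h0 : ∀ w, phi (dl q) (dl p) w = (0 : F) := fun w => by
      rw [phi_dl_left hq, List.sum_eq_zero]
      simp only [List.mem_map]
      rintro _ ⟨m, hm, rfl⟩
      obtain ⟨a, b, -⟩ := grad_ok q hq m hm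
      rw [co_dl hp a, co_dl hp b, if_neg (hk m hm).1.symm, if_neg (hk m hm).2.symm]
      ring
    have h1 := phi_act hg hF (dl q) (dl p) (act g⁻¹ (dl x))
    rw [h0, act_act_inv, hgq, phi_smul_left] at h1
    exact (mul_eq_zero.1 h1).resolve_left hc
  | some xp =>
    simp only [List.all_eq_true, Bool.and_eq_true, List.contains_iff_mem, Nat.blt_eq, Bool.not_eq_eq_eq_not,
      Bool.not_true, beq_eq_false_iff_ne] at hk
    obtain ⟨⟨hxm, hxp⟩, hk⟩ := hk
    obtain ⟨c', hc', hgx⟩ := hm _ hxm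
    simp only at hgx
    have h0 : phi (dl q) (dl p) (dl xp) = (0 : F) := by
      rw [phi_dl_dl hq hxp, List.sum_eq_zero]
      simp only [List.mem_map]
      rintro _ ⟨m, hm, rfl⟩
      by_cases hlt : m.1 < 27
      · rw [co_dl hp hlt, if_neg (hk m hm).symm, mul_zero]
      · exfalso
        obtain ⟨u, hu, hu'⟩ := List.mem_flatMap.1 hm
        obtain ⟨a, b, -⟩ := grad_ok xp hxp u hu
        split_ifs at hu' <;> simp_all <;> omega
    have h1 := phi_act hg hF (dl q) (dl p) (dl xp)
    rw [h0, hgq, hgx, phi_smul_left, phi_smul_right, ← mul_assoc] at h1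
    exact (mul_eq_zero.1 h1).resolve_left (mul_ne_zero hc hc')

/-- Vectors supported inside a set. -/
def Sup (S : List ℕ) (v : I27 → F) : Prop := ∀ a < 27, a ∉ S → co v a = 0

/-- The elements of the available roots. -/
noncomputable def grpOf (F : Type*) [Field F] (Rs : List ℕ) : Subgroup (GL I27 F) :=
  Subgroup.closure {g | ∃ r ∈ Rs, ∃ t : F, g = rt r t}

theorem grpOf_le (Rs : List ℕ) : grpOf F Rs ≤ rootGrp F :=
  (Subgroup.closure_le _).2 fun _ ⟨_, _, _, e⟩ => e ▸ rt_mem _ _

/-- The diagonal pairs. -/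
def idPairs (P : List ℕ) : List (ℕ × ℕ) := P.map fun q => (q, q)

/-- The coordinates to clear. -/
def Stg.ys (s : Stg) : List ℕ := s.clr.map Prod.fst

/-- The check of the roots of a stage. -/
def Stg.chkRoots (s : Stg) (P : List ℕ) : Bool :=
  s.roots.all fun r => Nat.blt r 72 &&
    (List.range 27).all fun a => (srcL (eL r) a).all fun q =>
      !(P.contains q.1) && (s.sup.contains a || !(s.sup.contains q.1))

/-- The check of a cleared coordinate. -/
def Stg.chkClr (s : Stg) (yr : ℕ × ℕ) : Bool :=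
  s.roots.contains yr.2 && Nat.blt yr.1 27 && !(yr.1 == s.p) && srcIs yr.2 yr.1 s.p &&
    (s.p :: s.ys).all fun a => a == yr.1 || (srcL (eL yr.2) a).all fun q => !(s.sup.contains q.1)

/-- A coordinate known to vanish after clearing. -/
def Stg.known (s : Stg) (a : ℕ) : Bool := !(s.sup.contains a) || s.ys.contains a

/-- The check of a coordinate vanishing by whiteness. -/
def Stg.chkWhite (s : Stg) (zx : ℕ × ℕ) : Bool :=
  Nat.blt zx.2 27 &&
    match (grad zx.2).filter (fun q => !(s.known q.1 || s.known q.2.1)) with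
    | [(a, b, e)] => isPm e && ((a == s.p && b == zx.1) || (a == zx.1 && b == s.p))
    | _ => false

/-- The moves, in order of the distance. -/
def chkMoves (s : Stg) : List ℕ → List (ℕ × ℕ × ℕ) → Bool
  | _, [] => true
  | d, (x, r, y) :: l => s.roots.contains r && Nat.blt y 27 && d.contains y && srcIs r y x && chkMoves s (x :: d) l

/-- The check of a stage apart from the nonvanishing. -/
def Stg.chk (s : Stg) (P : List ℕ) : Bool :=
  Nat.blt s.p 27 && s.chkRoots P && s.clr.all s.chkClr && s.white.all s.chkWhite && chkMoves s [s.p] s.moves &&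
    s.kills.all (killOK (idPairs P) s.p) &&
    (List.range 27).all fun a =>
      (s.sup.contains a || s.kills.any fun k => k.1 == a) &&
        (a == s.p || s.known a || s.white.any fun k => k.1 == a)

variable {s : Stg} {P : List ℕ}

theorem root_src (h : s.chkRoots P = true) {r : ℕ} (hr : r ∈ s.roots) :
    r < 72 ∧ ∀ a < 27, ∀ q ∈ srcL (eL r) a, q.1 < 27 ∧ q.1 ∉ P ∧ (a ∈ s.sup ∨ q.1 ∉ s.sup) := by
  simp only [Stg.chkRoots, List.all_eq_true, Bool.and_eq_true, Nat.blt_eq, List.mem_range, Bool.or_eq_true,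
    Bool.not_eq_eq_eq_not, Bool.not_true] at h
  obtain ⟨h1, h2⟩ := h r hr
  refine ⟨h1, fun a ha q hq => ⟨?_, ?_, ?_⟩⟩
  · obtain ⟨p, hp, e⟩ := List.mem_map.1 hq
    have := okL_eL r h1
    simp only [okL, List.all_eq_true, Bool.and_eq_true, Nat.blt_eq] at this
    rw [← e]; exact (this p (List.mem_filter.1 hp).1).2
  · simpa using (h2 a ha q hq).1
  · simpa using (h2 a ha q hq).2

theorem rt_sup (h : s.chkRoots P = true) {r : ℕ} (hr : r ∈ s.roots) (t : F) {v : I27 → F} (hv : Sup s.sup v) :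
    Sup s.sup (act (rt r t) v) := fun a ha hna => by
  obtain ⟨hr', hs⟩ := root_src h hr
  rw [co_rt hr' t v ha, hv a ha hna, List.sum_eq_zero, mul_zero, add_zero]
  simp only [List.mem_map]
  rintro _ ⟨q, hq, rfl⟩
  obtain ⟨h1, -, h3⟩ := hs a ha q hq
  rw [hv q.1 h1 (h3.resolve_left hna), mul_zero]

theorem rt_fix (h : s.chkRoots P = true) {r : ℕ} (hr : r ∈ s.roots) (t : F) {q : ℕ} (hq : q ∈ P) (hq' : q < 27) :
    act (rt r t) (dl q) = dl q := ext_co fun a ha => by
  obtain ⟨hr', hs⟩ := root_src h hr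
  rw [co_rt hr' t _ ha, List.sum_eq_zero, mul_zero, add_zero]
  simp only [List.mem_map]
  rintro _ ⟨p, hp, rfl⟩
  obtain ⟨h1, h2, -⟩ := hs a ha p hp
  rw [co_dl hq' h1, if_neg fun e : q = p.1 => h2 (e ▸ hq), mul_zero]

theorem rt_inv_eq {r : ℕ} (hr : r < 72) (t : F) : (rt r t)⁻¹ = rt r (-t) := by
  refine inv_eq_of_mul_eq_one_right (Units.ext ?_)
  rw [Units.val_mul, Units.val_one, rt, rt, MatRep.repHom_gen repOK (show r < chevE6.nroots from hr),
    MatRep.repHom_gen repOK (show r < chevE6.nroots from hr), MatRep.repX_mul repOK (show r < chevE6.nroots from hr),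
    add_neg_cancel, MatRep.repX_zero repOK]

theorem grp_inv (h : s.chkRoots P = true) (hP : ∀ q ∈ P, q < 27) {g : GL I27 F} (hg : g ∈ grpOf F s.roots) :
    (∀ v, Sup s.sup v → Sup s.sup (act g v) ∧ Sup s.sup (act g⁻¹ v)) ∧
      ∀ q ∈ P, act g (dl q) = dl q ∧ act g⁻¹ (dl q) = dl q := by
  induction hg using Subgroup.closure_induction with
  | mem x hx =>
    obtain ⟨r, hr, t, rfl⟩ := hx
    rw [rt_inv_eq (root_src h hr).1]
    exact ⟨fun v hv => ⟨rt_sup h hr t hv, rt_sup h hr _ hv⟩,
      fun q hq => ⟨rt_fix h hr t hq (hP q hq), rt_fix h hr _ hq (hP q hq)⟩⟩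
  | one => simp [act_one]
  | mul a b _ _ ha hb =>
    refine ⟨fun v hv => ⟨?_, ?_⟩, fun q hq => ⟨?_, ?_⟩⟩
    · rw [act_mul]; exact (ha.1 _ (hb.1 v hv).1).1
    · rw [_root_.mul_inv_rev, act_mul]; exact (hb.1 _ (ha.1 v hv).2).2
    · rw [act_mul, (hb.2 q hq).1, (ha.2 q hq).1]
    · rw [_root_.mul_inv_rev, act_mul, (ha.2 q hq).2, (hb.2 q hq).2]
  | inv a _ ha => exact ⟨fun v hv => by rw [inv_inv]; exact (ha.1 v hv).symm, fun q hq => by
      rw [inv_inv]; exact (ha.2 q hq).symm⟩

theorem rt_grp {r : ℕ} (hr : r ∈ s.roots) (t : F) : rt r t ∈ grpOf F s.roots :=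
  Subgroup.subset_closure ⟨r, hr, t, rfl⟩

/-- The coordinate `x` can be moved to the pivot. -/
def CanMove (F : Type*) [Field F] (s : Stg) (x : ℕ) : Prop :=
  ∀ v : I27 → F, co v x ≠ 0 → ∃ h ∈ grpOf F s.roots, co (act h v) s.p ≠ 0

theorem moves_spec (h : s.chkRoots P = true) : ∀ (l : List (ℕ × ℕ × ℕ)) (d : List ℕ),
    chkMoves s d l = true → (∀ x ∈ d, CanMove F s x) → ∀ x, (x ∈ d ∨ ∃ m ∈ l, m.1 = x) → CanMove F s x
  | [], d, _, hd, x, hx => hd x (hx.resolve_right (by simp))
  | (a, r, y) :: l, d, hc, hd, x, hx => by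
    simp only [chkMoves, Bool.and_eq_true, List.contains_iff_mem, Nat.blt_eq] at hc
    obtain ⟨⟨⟨⟨hr, hy⟩, hyd⟩, hs⟩, hc⟩ := hc
    refine moves_spec h l (a :: d) hc (fun z hz => ?_) x ?_
    · rcases List.mem_cons.1 hz with rfl | hz
      · intro v hv
        by_cases hy0 : co v y = 0
        · obtain ⟨c, hc', hcne⟩ := srcIs_spec (F := F) hs
          obtain ⟨k, hk, hk'⟩ := hd y hyd (act (rt r 1) v) (by
            rw [co_rt (root_src h hr).1 _ v hy, hc', hy0]
            simpa using ⟨hcne, hv⟩)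
          exact ⟨k * rt r 1, mul_mem hk (rt_grp hr 1), by rwa [act_mul]⟩
        · exact hd y hyd v hy0
      · exact hd z hz
    · rcases hx with hx | ⟨m, hm, rfl⟩
      · exact .inl (List.mem_cons_of_mem _ hx)
      · rcases List.mem_cons.1 hm with rfl | hm
        · exact .inl List.mem_cons_self
        · exact .inr ⟨m, hm, rfl⟩

theorem white_grp {Rs : List ℕ} {h : GL I27 F} (hh : h ∈ grpOf F Rs) (hF : ∃ s : F, s ≠ 0 ∧ s ≠ 1) {v : I27 → F}
    (hv : White v) : White (act h v) :=
  white_act (rootGrp_le (grpOf_le _ hh)) hF hv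

theorem clear_spec (h : s.chkRoots P = true) (hP : ∀ q ∈ P, q < 27) (hp : s.p < 27) (hc : s.clr.all s.chkClr = true)
    {v : I27 → F} (hv : Sup s.sup v) (hv' : co v s.p ≠ 0) :
    ∀ l : List (ℕ × ℕ), (∀ x ∈ l, x ∈ s.clr) → ∃ k ∈ grpOf F s.roots,
      co (act k v) s.p ≠ 0 ∧ ∀ x ∈ l, co (act k v) x.1 = 0
  | [], _ => ⟨1, one_mem _, by rwa [act_one], by simp⟩
  | (y, r) :: l, hl => by
    obtain ⟨k, hk, hk1, hk2⟩ := clear_spec h hP hp hc hv hv' l fun x hx => hl x (List.mem_cons_of_mem _ hx)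
    have hh := List.all_eq_true.1 hc _ (hl _ List.mem_cons_self)
    simp only [Stg.chkClr, Bool.and_eq_true, List.contains_iff_mem, Nat.blt_eq, List.all_eq_true, Bool.or_eq_true,
      beq_iff_eq, Bool.not_eq_eq_eq_not, Bool.not_true, beq_eq_false_iff_ne] at hh
    obtain ⟨⟨⟨⟨hr, hy⟩, hyp⟩, hs⟩, hd⟩ := hh
    obtain ⟨c, hc', hcne⟩ := srcIs_spec (F := F) hs
    set w := act k v
    obtain ⟨hr', hsr⟩ := root_src h hr
    have hw : Sup s.sup w := ((grp_inv h hP hk).1 v hv).1
    set t : F := -(co w y) / ((c : F) * co w s.p)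
    have same : ∀ a ∈ s.p :: s.ys, a < 27 → a ≠ y → co (act (rt r t) w) a = co w a := fun a ha ha' hne => by
      rw [co_rt hr' t w ha', List.sum_eq_zero, mul_zero, add_zero]
      simp only [List.mem_map]
      rintro _ ⟨q, hq, rfl⟩
      have h2 : q.1 ∉ s.sup := by simpa using ((hd a ha).resolve_left hne) q hq
      rw [hw q.1 (hsr a ha' q hq).1 h2, mul_zero]
    refine ⟨rt r t * k, mul_mem (rt_grp hr t) hk, ?_, ?_⟩
    · rw [act_mul, same _ List.mem_cons_self hp (Ne.symm hyp)]; exact hk1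
    · intro x hx
      rw [act_mul]
      by_cases hxy : x.1 = y
      · rw [hxy, co_rt hr' t w hy, hc']
        simp only [List.map_cons, List.map_nil, List.sum_cons, List.sum_nil, add_zero, t]
        field_simp
        ring
      · rcases List.mem_cons.1 hx with rfl | hx
        · exact absurd rfl hxy
        · have hx' := hl x (List.mem_cons_of_mem _ hx)
          have hlt : x.1 < 27 := by
            have := List.all_eq_true.1 hc x hx'
            simp only [Stg.chkClr, Bool.and_eq_true, Nat.blt_eq] at this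
            exact this.1.1.1.2
          rw [same _ (List.mem_cons_of_mem _ (List.mem_map.2 ⟨x, hx', rfl⟩)) hlt hxy]
          exact hk2 x hx

theorem stage_core {g : GL I27 F} (hg : g ∈ E6univ F) (hF : ∃ s : F, s ≠ 0 ∧ s ≠ 1) (hc : s.chk P = true)
    (hP : ∀ q ∈ P, q < 27) (hm : Maps g (idPairs P))
    (hne : ∃ x, (x = s.p ∨ ∃ m ∈ s.moves, m.1 = x) ∧ co (act g (dl s.p)) x ≠ 0) :
    ∃ h ∈ rootGrp F, Maps (h * g) (idPairs (P ++ [s.p])) := by
  simp only [Stg.chk, Bool.and_eq_true, Nat.blt_eq] at hc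
  obtain ⟨⟨⟨⟨⟨⟨hp, hroots⟩, hclr⟩, hwh⟩, hmv⟩, hkill⟩, hall⟩ := hc
  simp only [List.all_eq_true, List.mem_range, Bool.and_eq_true, Bool.or_eq_true, List.any_eq_true, beq_iff_eq,
    List.contains_iff_mem] at hall
  set v := act g (dl (F := F) s.p)
  have hv : Sup s.sup v := fun a ha hna => by
    obtain ⟨k, hk, rfl⟩ := (hall a ha).1.resolve_left hna
    exact kill_zero hg hF hm hp (List.all_eq_true.1 hkill k hk)
  obtain ⟨x, hx, hx0⟩ := hne
  have hcm : CanMove F s x := moves_spec hroots _ _ hmv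
    (fun z hz w hw => by rw [List.mem_singleton.1 hz] at hw; exact ⟨1, one_mem _, by rwa [act_one]⟩) x
    (hx.imp (fun e => by simp [e]) id)
  obtain ⟨k, hk, hk0⟩ := hcm v hx0
  have hkv : Sup s.sup (act k v) := ((grp_inv hroots hP hk).1 v hv).1
  obtain ⟨l, hl, hl0, hlz⟩ := clear_spec hroots hP hp hclr hkv hk0 s.clr fun _ => id
  set w := act l (act k v)
  have hw : Sup s.sup w := ((grp_inv hroots hP hl).1 _ hkv).1
  have hwhite : White w := white_grp hl hF (white_grp hk hF (white_act hg hF (white_dl hp)))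
  have known0 : ∀ a < 27, s.known a = true → co w a = 0 := fun a ha hka => by
    simp only [Stg.known, Bool.or_eq_true, Bool.not_eq_eq_eq_not, Bool.not_true, List.contains_iff_mem,
      Stg.ys, List.mem_map] at hka
    rcases hka with hka | ⟨y, hy, rfl⟩
    · exact hw a ha (by simpa using hka)
    · exact hlz y hy
  have final : ∀ a < 27, a ≠ s.p → co w a = 0 := fun a ha hne => by
    rcases (hall a ha).2 with (e | e) | ⟨⟨z, y⟩, hzy, rfl⟩
    · exact absurd e hne
    · exact known0 a ha e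
    · have h2 := List.all_eq_true.1 hwh _ hzy
      simp only [Stg.chkWhite, Bool.and_eq_true, Nat.blt_eq] at h2
      obtain ⟨hy, h2⟩ := h2
      have h3 := hwhite (dl y)
      rw [pA_dl w hy] at h3
      split at h2
      · rename_i a b e he
        simp only [Bool.and_eq_true, Bool.or_eq_true, beq_iff_eq] at h2
        obtain ⟨hpm, hab⟩ := h2
        have hsum : ∀ L : List (ℕ × ℕ × ℤ), (∀ q ∈ L, q ∈ grad y) →
            (L.map fun q => (q.2.2 : F) * (co w q.1 * co w q.2.1)).sum =
              ((L.filter fun q => !(s.known q.1 || s.known q.2.1)).map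
                fun q => (q.2.2 : F) * (co w q.1 * co w q.2.1)).sum := by
          intro L hL
          induction L with
          | nil => rfl
          | cons q L ih =>
            have ih := ih fun q' hq' => hL q' (List.mem_cons_of_mem _ hq')
            obtain ⟨hq1, hq2, -⟩ := grad_ok y hy q (hL q List.mem_cons_self)
            by_cases hq : (!(s.known q.1 || s.known q.2.1)) = true
            · rw [List.filter_cons_of_pos (by simpa using hq), List.map_cons, List.map_cons, List.sum_cons,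
                List.sum_cons, ih]
            · rw [List.filter_cons_of_neg (by simpa using hq), List.map_cons, List.sum_cons, ih]
              have hq : s.known q.1 = true ∨ s.known q.2.1 = true := by
                cases h1 : s.known q.1 <;> cases h2 : s.known q.2.1 <;> simp_all
              rcases hq with hq | hq
              · rw [known0 _ hq1 hq]; ring
              · rw [known0 _ hq2 hq]; ring
        rw [hsum _ (fun _ => id), he] at h3
        simp only [List.map_cons, List.map_nil, List.sum_cons, List.sum_nil, add_zero, mul_eq_zero,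
          pm_ne hpm, false_or] at h3
        rcases hab with ⟨rfl, rfl⟩ | ⟨rfl, rfl⟩
        · exact h3.resolve_left hl0
        · exact h3.resolve_right hl0
      · exact absurd h2 Bool.false_ne_true
  refine ⟨l * k, mul_mem (grpOf_le _ hl) (grpOf_le _ hk), fun q hq => ?_⟩
  rw [idPairs, List.map_append, List.mem_append] at hq
  rcases hq with hq | hq
  · obtain ⟨c, hc', hgc⟩ := hm q hq
    obtain ⟨a, ha, rfl⟩ := List.mem_map.1 hq
    refine ⟨c, hc', ?_⟩
    rw [act_mul, hgc, act_smul, act_mul, ((grp_inv hroots hP hk).2 a ha).1, ((grp_inv hroots hP hl).2 a ha).1]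
  · simp only [List.map_cons, List.map_nil, List.mem_singleton] at hq
    subst hq
    refine ⟨co w s.p, hl0, ?_⟩
    rw [act_mul, act_mul]
    refine ext_co fun a ha => ?_
    by_cases e : a = s.p
    · subst e
      change co w s.p = co w s.p * co (dl (F := F) s.p) s.p
      rw [co_dl hp hp, if_pos rfl, mul_one]
    · change co w a = co w s.p * co (dl (F := F) s.p) a
      rw [final a ha e, co_dl hp ha, if_neg (Ne.symm e), mul_zero]

/-- The check of the nonvanishing. -/
def Stg.chkDom (s : Stg) (P : List ℕ) : Bool :=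
  (s.dom.all fun d => d == s.p || s.moves.any fun m => m.1 == d) &&
    match s.why with
    | none => s.sup.all fun a => s.dom.contains a
    | some (q, none) => P.contains q && Nat.blt q 27 &&
        ((List.range 27).any fun y => thirdIs q y s.p) &&
        (grad q).all fun m => (!(s.sup.contains m.1) || s.dom.contains m.1) &&
          (!(s.sup.contains m.2.1) || s.dom.contains m.2.1)
    | some (q, some x) => P.contains q && P.contains x && Nat.blt q 27 && Nat.blt x 27 && thirdIs q x s.p &&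
        s.dom.contains s.p

theorem stage {g : GL I27 F} (hg : g ∈ E6univ F) (hF : ∃ s : F, s ≠ 0 ∧ s ≠ 1) (hc : s.chk P = true)
    (hd : s.chkDom P = true) (hP : ∀ q ∈ P, q < 27) (hm : Maps g (idPairs P)) :
    ∃ h ∈ rootGrp F, Maps (h * g) (idPairs (P ++ [s.p])) := by
  refine stage_core hg hF hc hP hm ?_
  simp only [Stg.chk, Bool.and_eq_true, Nat.blt_eq] at hc
  obtain ⟨⟨⟨⟨⟨⟨hp, hroots⟩, -⟩, -⟩, -⟩, hkill⟩, hall⟩ := hc
  simp only [List.all_eq_true, List.mem_range, Bool.and_eq_true, Bool.or_eq_true, List.any_eq_true, beq_iff_eq,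
    List.contains_iff_mem] at hall
  set v := act g (dl (F := F) s.p)
  have hv : Sup s.sup v := fun a ha hna => by
    obtain ⟨k, hk, rfl⟩ := (hall a ha).1.resolve_left hna
    exact kill_zero hg hF hm hp (List.all_eq_true.1 hkill k hk)
  simp only [Stg.chkDom, Bool.and_eq_true, List.all_eq_true, Bool.or_eq_true, List.any_eq_true, beq_iff_eq] at hd
  obtain ⟨hdom, hwhy⟩ := hd
  by_contra hcon
  push Not at hcon
  have hz : ∀ d < 27, d ∈ s.dom → co v d = 0 := fun d _ hd => hcon d (hdom d hd)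
  have hz' : ∀ d < 27, (d ∈ s.sup → d ∈ s.dom) → co v d = 0 := fun d hd' h => by
    by_cases e : d ∈ s.sup
    · exact hz d hd' (h e)
    · exact hv d hd' e
  split at hwhy
  · refine act_ne_zero (g := g) (dl_ne_zero (F := F) s.p) (ext_co fun a ha => ?_)
    exact hz' a ha fun e => by simpa using List.all_eq_true.1 hwhy a e
  · rename_i q _
    simp only [Bool.and_eq_true, List.contains_iff_mem, Nat.blt_eq, List.any_eq_true, List.mem_range,
      List.all_eq_true, Bool.or_eq_true, Bool.not_eq_eq_eq_not, Bool.not_true] at hwhy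
    obtain ⟨⟨⟨hqP, hq⟩, ⟨y, hy, hth⟩⟩, hgr⟩ := hwhy
    obtain ⟨e, he, hphi⟩ := thirdIs_spec hth hq hy (dl (F := F) s.p)
    rw [co_dl hp hp, if_pos rfl, mul_one] at hphi
    obtain ⟨c, hc', hgq⟩ := hm (q, q) (List.mem_map.2 ⟨q, hqP, rfl⟩)
    have h1 := phi_act hg hF (dl q) (dl s.p) (dl y)
    rw [hphi, hgq, phi_smul_left, phi_dl_left hq, List.sum_eq_zero, mul_zero] at h1
    · exact he h1.symm
    simp only [List.mem_map]
    rintro _ ⟨m, hm', rfl⟩
    obtain ⟨a, b, -⟩ := grad_ok q hq m hm'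
    have h2 := hgr m hm'
    rw [show co (act g (dl s.p)) m.1 = 0 from hz' _ a fun e' => h2.1.resolve_left (by simpa using e'),
      show co (act g (dl s.p)) m.2.1 = 0 from hz' _ b fun e' => h2.2.resolve_left (by simpa using e')]
    ring
  · rename_i q x _
    simp only [Bool.and_eq_true, List.contains_iff_mem, Nat.blt_eq] at hwhy
    obtain ⟨⟨⟨⟨⟨hqP, hxP⟩, hq⟩, hx⟩, hth⟩, hpd⟩ := hwhy
    obtain ⟨e, he, hphi⟩ := thirdIs_spec hth hq hx (dl (F := F) s.p)
    obtain ⟨e', -, hphi'⟩ := thirdIs_spec hth hq hx v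
    rw [co_dl hp hp, if_pos rfl, mul_one] at hphi
    obtain ⟨c, hc', hgq⟩ := hm (q, q) (List.mem_map.2 ⟨q, hqP, rfl⟩)
    obtain ⟨d, hd', hgx⟩ := hm (x, x) (List.mem_map.2 ⟨x, hxP, rfl⟩)
    have h1 := phi_act hg hF (dl q) (dl s.p) (dl x)
    rw [hphi, hgq, hgx, phi_smul_left, phi_smul_right, hphi', hz _ hp hpd, mul_zero, mul_zero, mul_zero] at h1
    exact he h1.symm

end Cfsg.Lib.Chev.E6Cubic
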