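import Cfsg.Agent.Lib.Chev.E6Cubic.Stage

/-!
The isometry group of the cubic form is generated by the root elements.
-/

set_option autoImplicit false
set_option linter.unusedSectionVars false
set_option maxRecDepth 100000

namespace Cfsg.Lib.Chev.E6Cubic

open Cfsg.Lie Matrix

variable {F : Type*} [Field F]

/-- The pivots in order. -/
def ordL : List ℕ := stgs.map Stg.p

/-- The stage with a given number. -/
def stgAt (n : ℕ) : Stg := stgs.getD n stg0

theorem stgs_chk : ((List.range 27).all fun n => (stgAt n).chk (ordL.take n)) = true := by decide +kernel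

theorem stgs_dom : ((List.range 27).all fun n => n == 9 || (stgAt n).chkDom (ordL.take n)) = true := by decide +kernel

theorem ord_take : ∀ n < 27, ordL.take (n + 1) = ordL.take n ++ [(stgAt n).p] := by decide +kernel

theorem ord_lt : ∀ q ∈ ordL, q < 27 := by decide +kernel

theorem ord_all : ∀ b < 27, b ∈ ordL := by decide +kernel

theorem swap_chk : (stg9.sup == [11, 24] && stg9.p == 11 && swapKills.all (killOK swapPairs 1) &&
    ((List.range 27).all fun a => swapKills.any fun k => k.1 == a) &&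
    swapPairs.all fun q => q == (11, 24) || (idPairs (ordL.take 9)).contains q) = true := by decide +kernel

theorem swap_move {g : GL I27 F} (hg : g ∈ E6univ F) (hF : ∃ s : F, s ≠ 0 ∧ s ≠ 1)
    (hm : Maps g (idPairs (ordL.take 9))) : co (act g (dl 11)) 11 ≠ 0 := by
  intro h11
  have hs := swap_chk
  simp only [Bool.and_eq_true, beq_iff_eq, List.all_eq_true, List.any_eq_true, List.mem_range, Bool.or_eq_true,
    List.contains_iff_mem] at hs
  obtain ⟨⟨⟨⟨hsup, hp⟩, hk⟩, hcov⟩, hpr⟩ := hs
  have hc := List.all_eq_true.1 stgs_chk 9 (by decide)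
  rw [show stgAt 9 = stg9 from rfl] at hc
  simp only [Stg.chk, Bool.and_eq_true, List.all_eq_true, List.mem_range, Bool.or_eq_true, List.any_eq_true,
    beq_iff_eq, List.contains_iff_mem] at hc
  obtain ⟨⟨-, hkill⟩, hall⟩ := hc
  set v := act g (dl (F := F) 11)
  have hv : v = co v 24 • dl 24 := ext_co fun a ha => by
    change co v a = co v 24 * co (dl (F := F) 24) a
    rw [co_dl (by decide) ha]
    by_cases e : 24 = a
    · rw [if_pos e, mul_one, e]
    · rw [if_neg e, mul_zero]
      by_cases e' : a = 11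
      · rw [e']; exact h11
      · obtain ⟨k, hk', rfl⟩ := (hall a ha).1.resolve_left (by rw [hsup]; simp [e', Ne.symm e])
        have := kill_zero hg hF hm (by decide : (11 : ℕ) < 27) (k := k) (by rw [← hp]; exact hkill k hk')
        exact this
  have h24 : co v 24 ≠ 0 := fun e => act_ne_zero (g := g) (dl_ne_zero (F := F) 11) (by
    show v = 0
    rw [hv, e, zero_smul])
  have hm' : Maps g swapPairs := fun q hq => by
    rcases hpr q hq with rfl | hq'
    · exact ⟨_, h24, hv⟩
    · exact hm q hq'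
  refine act_ne_zero (g := g) (dl_ne_zero (F := F) 1) (ext_co fun a ha => ?_)
  obtain ⟨k, hk', rfl⟩ := hcov a ha
  exact kill_zero hg hF hm' (by decide) (hk k hk')

theorem exists_diag (hF : ∃ s : F, s ≠ 0 ∧ s ≠ 1) {g : GL I27 F} (hg : g ∈ E6univ F) :
    ∀ n ≤ 27, ∃ h ∈ rootGrp F, Maps (h * g) (idPairs (ordL.take n))
  | 0, _ => ⟨1, one_mem _, fun q hq => by simp [idPairs] at hq⟩
  | n + 1, hn => by
    obtain ⟨h, hh, hm⟩ := exists_diag hF hg n (by omega)
    have hg' : h * g ∈ E6univ F := mul_mem (rootGrp_le hh) hg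
    have hc := List.all_eq_true.1 stgs_chk n (List.mem_range.2 (by omega))
    have hd := List.all_eq_true.1 stgs_dom n (List.mem_range.2 (by omega))
    have hP : ∀ q ∈ ordL.take n, q < 27 := fun q hq => ord_lt q (List.mem_of_mem_take hq)
    rw [ord_take n (by omega)]
    rcases Bool.or_eq_true _ _ |>.mp hd with e | e
    · obtain rfl : n = 9 := by simpa using e
      obtain ⟨k, hk, hm'⟩ := stage_core hg' hF hc hP hm ⟨_, .inl rfl, by
        rw [show (stgAt 9).p = 11 from rfl]; exact swap_move hg' hF hm⟩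
      exact ⟨k * h, mul_mem hk hh, by rwa [mul_assoc]⟩
    · obtain ⟨k, hk, hm'⟩ := stage hg' hF hc e hP hm
      exact ⟨k * h, mul_mem hk hh, by rwa [mul_assoc]⟩

/-! ### Diagonal isometries -/

/-- The exponent of a coroot element at a coordinate. -/
def he (i b : ℕ) : ℤ := (hexp.getD i []).getD b 0

/-- The coordinates with a given exponent. -/
def diagL (i : ℕ) (e : ℤ) : List (ℕ × ℕ × ℤ) :=
  ((List.range 27).filter fun b => he i b == e).map fun b => (b, b, 1)

theorem diag_chk : ((List.range 6).all fun i =>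
    let r := simpL.getD i 0
    Nat.blt r 72 && eqL (smulL (eL r) (eL (chevE6.neg r))) (diagL i 1) &&
      eqL (smulL (eL (chevE6.neg r)) (eL r)) (diagL i (-1)) && okL (diagL i 1) && okL (diagL i (-1)) &&
      (List.range 27).all fun a => srcL (diagL i 1) a == (if he i a == 1 then [(a, (1 : ℤ))] else []) &&
        srcL (diagL i (-1)) a == (if he i a == -1 then [(a, (1 : ℤ))] else []) &&
        (he i a == 1 || he i a == -1 || he i a == 0)) = true := by decide +kernel

/-- A coroot element of a simple root. -/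
noncomputable def hh (i : ℕ) (t : Fˣ) : GL I27 F :=
  MatRep.repHom repOK (PresentedGroup.mk (chevE6.steinbergRels F) (chevE6.stH (simpL.getD i 0) (t : F)))

theorem act_hh {i : ℕ} (hi : i < 6) (t : Fˣ) {b : ℕ} (hb : b < 27) :
    act (hh i t) (dl (F := F) b) = ((t ^ he i b : Fˣ) : F) • dl b := by
  have h := List.all_eq_true.1 diag_chk i (List.mem_range.2 hi)
  simp only [Bool.and_eq_true, Nat.blt_eq, List.all_eq_true, List.mem_range, beq_iff_eq, Bool.or_eq_true] at h
  obtain ⟨⟨⟨⟨⟨hr, hP⟩, hN⟩, okP⟩, okN⟩, ha⟩ := h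
  set r := simpL.getD i 0
  have hr' : r < chevE6.nroots := hr
  have hn : chevE6.neg r < 72 := (repOK.neg_lt r hr').1
  refine ext_co fun a ha' => ?_
  rw [act, hh, show MatRep.repHom (F := F) repOK (PresentedGroup.mk (chevE6.steinbergRels F) (chevE6.stH r (t : F))) =
      FreeGroup.lift (MatRep.repGen repOK) (chevE6.stH r (t : F)) from rfl, MatRep.coe_lift_stH repOK hr' t.ne_zero,
    MatRep.mE, MatRep.mE, ← map_mul, ← map_mul, e6E, e6E, toM_mul (okL_eL r hr) (okL_eL _ hn),
    toM_mul (okL_eL _ hn) (okL_eL r hr), toM_of_eqL hP, toM_of_eqL hN, Matrix.add_mulVec, Matrix.add_mulVec,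
    Matrix.sub_mulVec, Matrix.add_mulVec, Matrix.one_mulVec, Matrix.smul_mulVec, Matrix.smul_mulVec]
  have c1 := co_mulVec (F := F) okP (dl b) ha'
  have c2 := co_mulVec (F := F) okN (dl b) ha'
  obtain ⟨⟨s1, s2⟩, hrange⟩ := ha a ha'
  rw [s1] at c1
  rw [s2] at c2
  simp only [co, Pi.add_apply, Pi.sub_apply, Pi.smul_apply, smul_eq_mul] at c1 c2 ⊢
  rw [c1, c2]
  have hd : co (dl (F := F) b) a = if b = a then 1 else 0 := co_dl hb ha'
  simp only [co] at hd
  by_cases e : b = a
  · subst e
    rw [if_pos rfl] at hd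
    rcases hrange with (e | e) | e <;> simp [e, hd]
  · rw [if_neg e] at hd
    split_ifs <;> simp [hd]

theorem hh_mem (i : ℕ) (t : Fˣ) : hh i t ∈ rootGrp F := ⟨_, rfl⟩

theorem exists_torus (t : Fin 6 → Fˣ) : ∀ n ≤ 6, ∃ h ∈ rootGrp F, ∀ b < 27, act h (dl (F := F) b) =
    ((∏ i ∈ Finset.univ.filter (fun i : Fin 6 => (i : ℕ) < n), t i ^ he i b : Fˣ) : F) • dl b
  | 0, _ => ⟨1, one_mem _, fun b _ => by simp [act_one]⟩
  | n + 1, hn => by
    obtain ⟨h, hh', hb⟩ := exists_torus t n (by omega)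
    refine ⟨hh n (t ⟨n, by omega⟩) * h, mul_mem (hh_mem _ _) hh', fun b hlt => ?_⟩
    have e : Finset.univ.filter (fun i : Fin 6 => (i : ℕ) < n + 1) =
        insert ⟨n, by omega⟩ (Finset.univ.filter fun i : Fin 6 => (i : ℕ) < n) := by
      ext i
      simp only [Finset.mem_filter, Finset.mem_univ, true_and, Finset.mem_insert, Fin.ext_iff]
      omega
    rw [act_mul, hb b hlt, act_smul, act_hh (by omega) _ hlt, smul_smul, e, Finset.prod_insert (by simp),
      Units.val_mul, mul_comm]

/-- The exponents of the six coordinates. -/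
def invE (i k : Fin 6) : ℤ := (invL.getD i []).getD k 0

theorem inv_chk : ∀ j k : Fin 6, (∑ i : Fin 6, invE i k * he i (sixL.getD j 0)) = if j = k then 1 else 0 := by
  decide +kernel

theorem six_lt : ∀ j : Fin 6, sixL.getD j 0 < 27 := by decide +kernel

theorem six_mem : ∀ b ∈ sixL, ∃ j : Fin 6, sixL.getD j 0 = b := by decide +kernel

/-- The check of the propagation. -/
def chkTor : List ℕ → List (ℕ × ℕ × ℕ) → Bool
  | d, [] => (List.range 27).all fun b => d.contains b
  | d, (u, x, y) :: l => d.contains x && d.contains y && Nat.blt u 27 && Nat.blt x 27 && Nat.blt y 27 &&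
      thirdIs x y u && chkTor (u :: d) l

theorem tor_chk : chkTor sixL torSteps = true := by decide +kernel

theorem zpow_sum' {A ι : Type*} [CommGroup A] (a : A) (f : ι → ℤ) (s : Finset ι) :
    ∏ i ∈ s, a ^ f i = a ^ ∑ i ∈ s, f i := by
  classical
  induction s using Finset.induction with
  | empty => simp
  | insert i s hi ih => rw [Finset.prod_insert hi, Finset.sum_insert hi, ih, _root_.zpow_add]

theorem diag_eq_one {g : GL I27 F} (hg : g ∈ E6univ F) (hF : ∃ s : F, s ≠ 0 ∧ s ≠ 1)
    {c : ℕ → F} (hc : ∀ b < 27, act g (dl b) = c b • dl b) :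
    ∀ (l : List (ℕ × ℕ × ℕ)) (d : List ℕ), chkTor d l = true → (∀ b ∈ d, c b = 1) → ∀ b < 27, c b = 1
  | [], d, h, hd, b, hb => hd b (by
      simp only [chkTor, List.all_eq_true, List.mem_range, List.contains_iff_mem] at h; exact h b hb)
  | (u, x, y) :: l, d, h, hd, b, hb => by
    simp only [chkTor, Bool.and_eq_true, List.contains_iff_mem, Nat.blt_eq] at h
    obtain ⟨⟨⟨⟨⟨⟨hxd, hyd⟩, hu⟩, hx⟩, hy⟩, hth⟩, h⟩ := h
    refine diag_eq_one hg hF hc l (u :: d) h (fun z hz => ?_) b hb
    rcases List.mem_cons.1 hz with rfl | hz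
    · obtain ⟨e, he', hphi⟩ := thirdIs_spec hth hx hy (dl (F := F) z)
      rw [co_dl hu hu, if_pos rfl, mul_one] at hphi
      have h1 := phi_act hg hF (dl x) (dl z) (dl y)
      rw [hc x hx, hc z hu, hc y hy, hd x hxd, hd y hyd, one_smul, one_smul, phi_smul_mid, hphi] at h1
      exact (mul_eq_right₀ he').1 h1
    · exact hd z hz

theorem E6univ_eq (hF : ∃ s : F, s ≠ 0 ∧ s ≠ 1) : E6univ F = rootGrp F := by
  refine le_antisymm (fun g hg => ?_) rootGrp_le
  obtain ⟨h, hh', hm⟩ := exists_diag hF hg 27 le_rfl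
  set g₁ := h * g
  have hg₁ : g₁ ∈ E6univ F := mul_mem (rootGrp_le hh') hg
  have hdiag : ∀ b < 27, ∃ c : Fˣ, act g₁ (dl b) = (c : F) • dl b := fun b hb => by
    obtain ⟨c, hc, e⟩ := hm (b, b) (List.mem_map.2 ⟨b, by
      rw [List.take_of_length_le (by decide)]; exact ord_all b hb, rfl⟩)
    exact ⟨Units.mk0 c hc, e⟩
  choose c hc using hdiag
  let cs : Fin 6 → Fˣ := fun k => c _ (six_lt k)
  obtain ⟨k, hk, hkb⟩ := exists_torus (fun i => ∏ j : Fin 6, cs j ^ (-invE i j)) 6 le_rfl
  have hfil : Finset.univ.filter (fun i : Fin 6 => (i : ℕ) < 6) = Finset.univ := by simp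
  simp only [hfil] at hkb
  have hg₂ : k * g₁ ∈ E6univ F := mul_mem (rootGrp_le hk) hg₁
  let d : ℕ → F := fun b => if hb : b < 27 then
    (c b hb : F) * ((∏ i : Fin 6, (∏ j : Fin 6, cs j ^ (-invE i j)) ^ he i b : Fˣ) : F) else 1
  have hd : ∀ b < 27, act (k * g₁) (dl b) = d b • dl b := fun b hb => by
    rw [act_mul, hc b hb, act_smul, hkb b hb, smul_smul]
    simp [d, hb]
  have hsix : ∀ b ∈ sixL, d b = 1 := fun b hb => by
    obtain ⟨j, rfl⟩ := six_mem b hb
    have e : (∏ i : Fin 6, (∏ l : Fin 6, cs l ^ (-invE i l)) ^ he i (sixL.getD j 0)) = (cs j)⁻¹ := by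
      calc _ = ∏ i : Fin 6, ∏ l : Fin 6, cs l ^ (-(invE i l * he i (sixL.getD j 0))) := by
            refine Finset.prod_congr rfl fun i _ => ?_
            rw [← Finset.prod_zpow]
            exact Finset.prod_congr rfl fun l _ => by rw [← _root_.zpow_mul, neg_mul]
        _ = ∏ l : Fin 6, cs l ^ (-(if j = l then 1 else 0 : ℤ)) := by
            rw [Finset.prod_comm]
            refine Finset.prod_congr rfl fun l _ => ?_
            rw [zpow_sum', Finset.sum_neg_distrib, inv_chk]
        _ = _ := by simp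
    simp only [d, dif_pos (six_lt j)]
    rw [e, Units.val_inv_eq_inv_val]
    exact mul_inv_cancel₀ (cs j).ne_zero
  have hone := diag_eq_one hg₂ hF hd _ _ tor_chk hsix
  have : k * g₁ = 1 := Units.ext (Matrix.ext fun x y => by
    have h1 := congrFun (hd (cd y) (cd_lt y)) x
    rw [hone _ (cd_lt y), one_smul, act, dl, ix_cd, Matrix.mulVec_single_one] at h1
    rw [Units.val_one, Matrix.one_apply]
    simpa [Pi.single_apply] using h1)
  have e : g = (k * h)⁻¹ := eq_inv_of_mul_eq_one_right (by rw [mul_assoc]; exact this)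
  rw [e]
  exact inv_mem (mul_mem hk hh')

end Cfsg.Lib.Chev.E6Cubic
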